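import Cfsg.Agent.Lib.Helper78.BrCPerLib

/-! S4504 part C, piece PerZero. -/

set_option autoImplicit false

namespace Cfsg.Agent.Lib.Helper78.BrCPerZero

open Cfsg.Agent.Lib.Lead Cfsg.Agent.Lib.Lead.BrHalf Cfsg.Agent.Lib.Helper78.BrCPerLib

theorem main : BrHalf.PerZero := by
  intro p _ hp2 ζ hζ a ha
  have h0 : (a : ZMod p) = ((0 : ℕ) : ZMod p) := by
    rw [Nat.cast_zero]
    exact (ZMod.natCast_eq_zero_iff a p).mpr ha
  rw [per_congr hζ h0]
  unfold per
  simp only [zero_mul, pow_zero, Finset.sum_const, nsmul_eq_mul, mul_one]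
  rw [card_sq p hp2]

end Cfsg.Agent.Lib.Helper78.BrCPerZero
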