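import Mathlib
import Cfsg.Agent.Lib.Helper4.UniStmt

/-!
Piece S4395/HYP: a Schmidt datum `SD p q r t X P y` gives `Hyp p q ↥P (MulAut.conjNormal y)`.
-/

set_option autoImplicit false
universe u

namespace Cfsg.Agent.Lib.Helper78.UniHYP

open Cfsg.Agent.Lib.Helper4.UniStmt

theorem main : Cfsg.Agent.Lib.Helper4.UniStmt.HYP.{u} := by
  intro p q r t hp hq _hpq _hr X _ _ P hPn y hSD
  obtain ⟨_, hcard, _hy, _hgen, hyq, hmin, u, huP, hu⟩ := hSD
  refine ⟨IsPGroup.of_card hcard, ?_, ?_, ?_⟩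
  · -- σ ^ q = 1
    rw [← map_pow]
    ext x
    rw [MulAut.conjNormal_apply]
    have hc := Subgroup.mem_center_iff.mp hyq
    simp only [MulAut.one_apply]
    rw [← hc (x : X)]
    group
  · -- σ ≠ 1
    intro h
    apply hu
    have h1 := congrArg (fun σ : MulAut ↥P => ((σ ⟨u, huP⟩ : ↥P) : X)) h
    simpa [MulAut.conjNormal_apply] using h1
  · intro R hR hinv x hx
    have hle : R.map P.subtype ≤ P := by
      rintro _ ⟨z, _, rfl⟩
      exact z.2
    have hne : R.map P.subtype ≠ P := by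
      intro h
      apply hR
      rw [eq_top_iff]
      intro z _
      have hz : (z : X) ∈ R.map P.subtype := by rw [h]; exact z.2
      obtain ⟨w, hw, hwz⟩ := hz
      have : w = z := Subtype.ext hwz
      rwa [← this]
    have hinv' : ∀ z ∈ R.map P.subtype, y * z * y⁻¹ ∈ R.map P.subtype := by
      rintro _ ⟨z, hz, rfl⟩
      refine ⟨MulAut.conjNormal y z, hinv z hz, ?_⟩
      simp [MulAut.conjNormal_apply]
    have hfix := hmin (R.map P.subtype) hle hne hinv' (x : X) ⟨x, hx, rfl⟩
    apply Subtype.ext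
    rw [MulAut.conjNormal_apply]
    exact hfix

end Cfsg.Agent.Lib.Helper78.UniHYP
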