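import Mathlib
import Cfsg.Prelude.Def_Characters
import Cfsg.Prelude.Def_Blocks
import Cfsg.Agent.Lib.CT.NormOne
import Cfsg.Agent.Lib.CT.Kernel
import Cfsg.Agent.Lib.CT.LinChar
import Cfsg.Agent.Lib.CT.Orth
import Cfsg.Agent.Lib.CT.Wedderburn
import Cfsg.Agent.Lib.CT.SectionOrth
import Cfsg.Agent.Lib.Helper3.Spectral
import Cfsg.Agent.Lib.Helper26.GenChar
import Cfsg.Agent.Lib.Helper76.GaloisConj

/-!
Commuting non-central `p`- and `q`-elements in a linear group of small degree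
(namespace `Cfsg.Agent.Lib.Helper78.GaloisPQ`).

Main result `exists_commuting`: if `G` has a faithful character of degree `n`, `p ≠ q` are primes
larger than `n + 1`, and `G` has a non-central `p`-element and a non-central `q`-element, then there
are a non-central `p`-element and a non-central `q`-element which commute.
-/

set_option autoImplicit false

namespace Cfsg.Agent.Lib.Helper78.GaloisPQ

open Cfsg Cfsg.Agent.Lib.CT
open scoped ComplexConjugate

/-- A rational number that is an algebraic integer is an integer. -/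
theorem int_of_integral_rat (q : ℚ) (h : IsIntegral ℤ (q : ℂ)) : ∃ z : ℤ, q = (z : ℚ) := by
  have h1 : IsIntegral ℤ q := by
    have h2 : (q : ℂ) = algebraMap ℚ ℂ q := rfl
    rw [h2] at h
    exact (isIntegral_algebraMap_iff (algebraMap ℚ ℂ).injective).mp h
  obtain ⟨z, hz⟩ := IsIntegrallyClosed.isIntegral_iff.mp h1
  exact ⟨z, by rw [← hz]; rfl⟩

/-- Fewer than `p - 1` `p`-th roots of unity whose power sums `∑ μ_i ^ k` (`1 ≤ k < p`) all
coincide are all equal to `1`. -/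
theorem roots_all_one {d p : ℕ} (hp : p.Prime) (hd : d + 1 < p) (μ : Fin d → ℂ)
    (hμ : ∀ i, μ i ^ p = 1)
    (h : ∀ k, 1 ≤ k → k < p → ∑ i, μ i ^ k = ∑ i, μ i) : ∀ i, μ i = 1 := by
  classical
  set c : ℂ := ∑ i, μ i with hc
  set m₀ : ℕ := (Finset.univ.filter (fun i => μ i = 1)).card with hm₀
  have hgeom : ∀ i, ∑ k ∈ Finset.range p, μ i ^ k = if μ i = 1 then (p : ℂ) else 0 := by
    intro i
    split_ifs with h1
    · simp [h1]
    · have h2 := geom_sum_mul (μ i) p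
      rw [hμ i, sub_self] at h2
      rcases mul_eq_zero.1 h2 with h3 | h3
      · exact h3
      · exact absurd (sub_eq_zero.1 h3) h1
  have hsum1 : ∑ i, ∑ k ∈ Finset.range p, μ i ^ k = (m₀ : ℂ) * p := by
    rw [Finset.sum_congr rfl (fun i _ => hgeom i), Finset.sum_ite, Finset.sum_const,
      Finset.sum_const_zero, add_zero, nsmul_eq_mul]
  have hsum2 : ∑ i, ∑ k ∈ Finset.range p, μ i ^ k = (d : ℂ) + ((p : ℂ) - 1) * c := by
    rw [Finset.sum_comm, Finset.range_eq_Ico, Finset.sum_eq_sum_Ico_succ_bot hp.pos]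
    simp only [pow_zero, Finset.sum_const, Finset.card_univ, Fintype.card_fin, nsmul_eq_mul,
      mul_one]
    rw [Finset.sum_congr rfl
      (fun k hk => h k (Finset.mem_Ico.1 hk).1 (Finset.mem_Ico.1 hk).2)]
    rw [Finset.sum_const, Nat.card_Ico, nsmul_eq_mul, Nat.cast_sub hp.pos]
    simp
  have hc_eq : ((p : ℂ) - 1) * c = (m₀ : ℂ) * p - d := by
    rw [← hsum1, hsum2]; ring
  have hint : IsIntegral ℤ c :=
    IsIntegral.sum _ (fun i _ => IsIntegral.of_pow hp.pos (by rw [hμ i]; exact isIntegral_one))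
  have hp1 : ((p : ℂ) - 1) ≠ 0 := sub_ne_zero.2 (by exact_mod_cast hp.one_lt.ne')
  have hp1' : ((p : ℚ) - 1) ≠ 0 := sub_ne_zero.2 (by exact_mod_cast hp.one_lt.ne')
  set r : ℚ := ((m₀ : ℚ) * p - d) / ((p : ℚ) - 1) with hr
  have hrc : (r : ℂ) = c := by
    rw [hr]
    push_cast
    rw [div_eq_iff hp1]
    linear_combination -hc_eq
  rw [← hrc] at hint
  obtain ⟨z, hz⟩ := int_of_integral_rat r hint
  have hz2 : ((p : ℚ) - 1) * z = (m₀ : ℚ) * p - d := by
    rw [← hz, hr]; field_simp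
  have hz3 : ((p : ℤ) - 1) * (z - m₀) = (m₀ : ℤ) - d := by
    have : (((p : ℤ) - 1) * (z - m₀) : ℚ) = ((m₀ : ℤ) - d : ℚ) := by
      push_cast
      linear_combination hz2
    exact_mod_cast this
  have hm₀d : m₀ ≤ d := by
    have := Finset.card_filter_le (Finset.univ : Finset (Fin d)) (fun i => μ i = 1)
    simpa using this
  have hzero : (m₀ : ℤ) - d = 0 := by
    apply Int.eq_zero_of_abs_lt_dvd (m := (p : ℤ) - 1) ⟨_, hz3.symm⟩
    rw [abs_lt]
    constructor <;> omega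
  have hm₀eq : m₀ = d := by omega
  have huniv : Finset.univ.filter (fun i => μ i = 1) = Finset.univ := by
    apply Finset.eq_univ_of_card
    rw [← hm₀, hm₀eq]; simp
  intro i
  have : i ∈ Finset.univ.filter (fun i => μ i = 1) := by rw [huniv]; exact Finset.mem_univ i
  exact (Finset.mem_filter.1 this).2

universe u
variable {G : Type u} [Group G]

/-- Twisting an irreducible character by a power of its determinant so that central elements of
order prime to the degree act trivially. -/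
theorem exists_twist [Finite G] {ψ : G → ℂ} (hψ : IsIrrCharacter G ψ) {d : ℕ}
    (hd : ψ 1 = (d : ℂ)) (M : ℕ) (hM1 : 1 < M) (hM : d.Coprime M) :
    ∃ ψ' : G → ℂ, IsIrrCharacter G ψ' ∧ ψ' 1 = ψ 1 ∧ (∀ g, ‖ψ' g‖ = ‖ψ g‖) ∧
      ∀ z ∈ Subgroup.center G, z ^ M = 1 → ∀ g, ψ' (z * g) = ψ' g := by
  have hψ0 := hψ
  obtain ⟨m, ρ, hirr, hρ⟩ := hψ
  have hfr : Module.finrank ℂ (Fin m → ℂ) = m := Module.finrank_fin_fun ℂ
  have hmd : m = d := by
    have h1 : ρ.character 1 = (m : ℂ) := by rw [Representation.char_one, hfr]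
    rw [hρ, hd] at h1
    exact_mod_cast h1.symm
  subst hmd
  have hm0 : m ≠ 0 := by
    rintro rfl
    rw [Nat.coprime_zero_left] at hM
    omega
  obtain ⟨e, -, he⟩ := Nat.exists_mul_mod_eq_one_of_coprime hM hM1
  let δ : G →* ℂˣ :=
    ((LinearMap.det : ((Fin m → ℂ) →ₗ[ℂ] (Fin m → ℂ)) →* ℂ).comp ρ).toHomUnits
  have hδ : ∀ g, ((δ g : ℂˣ) : ℂ) = LinearMap.det (ρ g) := fun g => rfl
  let f : G →* ℂˣ := (δ ^ e)⁻¹
  have hf : ∀ g, ((f g : ℂˣ) : ℂ) = ((LinearMap.det (ρ g)) ^ e)⁻¹ := by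
    intro g
    show (((δ ^ e)⁻¹ g : ℂˣ) : ℂ) = _
    rw [MonoidHom.inv_apply, MonoidHom.pow_apply, Units.val_inv_eq_inv_val, Units.val_pow_eq_pow_val,
      hδ]
  let μ : G → ℂ := fun g => ((f g : ℂˣ) : ℂ)
  have hμ : IsCharacter G μ := LinChar.isCharacter_of_hom f
  have hμ1 : μ 1 = 1 := by simp [μ]
  refine ⟨μ * ψ, ?_, ?_, ?_, ?_⟩
  · exact LinChar.isIrrCharacter_linear_mul hμ hμ1 hψ0
  · rw [Pi.mul_apply, hμ1, one_mul]
  · intro g
    rw [Pi.mul_apply, norm_mul, LinChar.linear_norm hμ hμ1 g, one_mul]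
  · intro z hz hzM g
    have hnorm : ‖ψ z‖ = (ψ 1).re := Kernel.norm_eq_of_mem_center hψ0 hz
    obtain ⟨ω, hω⟩ := (Kernel.rep_norm_char_eq_iff ρ z).1 (by rw [hρ]; exact hnorm)
    have hωM : ω ^ M = 1 := by
      have h1 : (ρ z) ^ M = 1 := by rw [← map_pow, hzM, map_one]
      rw [hω, smul_pow, one_pow] at h1
      have h2 := congrArg (LinearMap.trace ℂ (Fin m → ℂ)) h1
      rw [map_smul, LinearMap.trace_one, hfr, smul_eq_mul] at h2
      have hm0' : (m : ℂ) ≠ 0 := Nat.cast_ne_zero.2 hm0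
      exact mul_right_cancel₀ hm0' (by rw [h2, one_mul])
    have hω0 : ω ≠ 0 := by
      rintro rfl
      rw [zero_pow (by omega)] at hωM
      exact zero_ne_one hωM
    have hdet : LinearMap.det (ρ z) = ω ^ m := by
      rw [hω, LinearMap.det_smul, hfr, map_one, mul_one]
    have hψz : ψ (z * g) = ω * ψ g := by
      rw [← hρ]
      show LinearMap.trace ℂ _ (ρ (z * g)) = ω * LinearMap.trace ℂ _ (ρ g)
      rw [map_mul, hω, smul_mul_assoc, one_mul, map_smul, smul_eq_mul]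
    have hμz : μ (z * g) = μ z * μ g := LinChar.linear_mul hμ hμ1 z g
    have hμz' : μ z = ω⁻¹ := by
      show ((f z : ℂˣ) : ℂ) = ω⁻¹
      rw [hf z, hdet, ← pow_mul]
      have h3 : m * e = M * (m * e / M) + 1 := by
        have := Nat.div_add_mod (m * e) M
        omega
      rw [h3, pow_succ, pow_mul, hωM, one_pow, one_mul]
    rw [Pi.mul_apply, Pi.mul_apply, hμz, hψz, hμz']
    field_simp

/-- For a prime `p` exceeding the degree by more than one and a `p`-element outside the kernel,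
some Galois conjugate `g ↦ φ (g ^ k)` differs from `φ`, while agreeing with `φ` on the elements
whose `p`-part is central. -/
theorem exists_galois [Finite G] {p : ℕ} (hp : p.Prime) {φ : G → ℂ} (hφ : IsCharacter G φ)
    {d : ℕ} (hφ1 : φ 1 = (d : ℂ)) (hdp : d + 1 < p) (M : ℕ)
    (hM : p ^ (Nat.card G).factorization p ∣ M)
    (hkill : ∀ z ∈ Subgroup.center G, z ^ M = 1 → ∀ g, φ (z * g) = φ g)
    (x₁ : G) (hx : ∃ j : ℕ, orderOf x₁ = p ^ j) (hx1 : φ x₁ ≠ φ 1) :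
    ∃ k : ℕ, k.Coprime (Nat.card G) ∧ (∃ g, φ (g ^ k) ≠ φ g) ∧
      ∀ g z, IsPPart p g z → z ∈ Subgroup.center G → φ (g ^ k) = φ g := by
  classical
  obtain ⟨m, ρ, hρ⟩ := hφ
  have hfr : Module.finrank ℂ (Fin m → ℂ) = m := Module.finrank_fin_fun ℂ
  have hmd : m = d := by
    have h1 : ρ.character 1 = (m : ℂ) := by rw [Representation.char_one, hfr]
    rw [hρ, hφ1] at h1
    exact_mod_cast h1.symm
  subst hmd
  obtain ⟨j, hj⟩ := hx
  have hex : ∃ i, ρ (x₁ ^ p ^ i) = 1 := ⟨j, by rw [← hj, pow_orderOf_eq_one, map_one]⟩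
  have hi₀spec : ρ (x₁ ^ p ^ (Nat.find hex)) = 1 := Nat.find_spec hex
  have hρx : ρ x₁ ≠ 1 := by
    intro h
    apply hx1
    rw [← hρ]
    exact (Kernel.rep_char_eq_iff ρ x₁).2 h
  have hi₀pos : Nat.find hex ≠ 0 := by
    intro h0
    rw [h0, pow_zero, pow_one] at hi₀spec
    exact hρx hi₀spec
  obtain ⟨i₁, hi₁⟩ := Nat.exists_eq_succ_of_ne_zero hi₀pos
  set y := x₁ ^ p ^ i₁ with hy
  have hy1 : ρ y ≠ 1 := Nat.find_min hex (by omega : i₁ < Nat.find hex)
  have hyp : ρ (y ^ p) = 1 := by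
    rw [hy, ← pow_mul, ← pow_succ, ← Nat.succ_eq_add_one, ← hi₁]
    exact hi₀spec
  clear_value y
  have hTp : (ρ y) ^ p = 1 := by rw [← map_pow]; exact hyp
  obtain ⟨b, μ, hb, hμ⟩ :=
    Cfsg.Agent.Lib.Helper3.Spectral.exists_eigenbasis_of_pow_eq_one (ρ y) p hp.pos hTp
  have hpowb : ∀ (k : ℕ) i, ((ρ y) ^ k) (b i) = μ i ^ k • b i := by
    intro k i
    induction k with
    | zero => simp
    | succ k ih =>
      rw [pow_succ, Module.End.mul_apply, hb i, map_smul, ih, smul_smul, pow_succ, mul_comm]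
  have htr : ∀ k : ℕ, φ (y ^ k) = ∑ i, μ i ^ k := by
    intro k
    rw [← hρ]
    show LinearMap.trace ℂ _ (ρ (y ^ k)) = _
    rw [map_pow]
    exact Cfsg.Agent.Lib.Helper3.Spectral.trace_eq_sum_of_eigenbasis b ((ρ y) ^ k)
      (fun i => μ i ^ k) (fun i => hpowb k i)
  have hk₀ : ∃ k₀, 1 ≤ k₀ ∧ k₀ < p ∧ φ (y ^ k₀) ≠ φ y := by
    by_contra hcon
    push Not at hcon
    have hall : ∀ i, μ i = 1 := by
      apply roots_all_one hp (by rw [hfr]; exact hdp) μ hμ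
      intro k hk1 hkp
      have h1 := htr k
      have h2 := htr 1
      rw [pow_one] at h2
      rw [← h1, hcon k hk1 hkp, h2]
      simp
    apply hy1
    apply b.ext
    intro i
    rw [hb i, hall i, one_smul]
    rfl
  obtain ⟨k₀, hk₀1, hk₀p, hk₀ne⟩ := hk₀
  have hN0 : Nat.card G ≠ 0 := Nat.card_pos.ne'
  set a := (Nat.card G).factorization p with ha
  set N' := Nat.card G / p ^ a with hN'
  have hNeq : p ^ a * N' = Nat.card G := Nat.ordProj_mul_ordCompl_eq_self (Nat.card G) p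
  have hco : Nat.Coprime p N' := Nat.coprime_ordCompl hp hN0
  obtain ⟨k, hkp, hkN⟩ := Nat.chineseRemainder hco k₀ 1
  have hpk : ¬ p ∣ k := by
    intro hdvd
    have h1 : k₀ ≡ 0 [MOD p] := hkp.symm.trans ((Nat.modEq_zero_iff_dvd).2 hdvd)
    have h2 : p ∣ k₀ := (Nat.modEq_zero_iff_dvd).1 h1
    have := Nat.le_of_dvd (by omega) h2
    omega
  have hkcop : k.Coprime (Nat.card G) := by
    rw [← hNeq]
    apply Nat.Coprime.mul_right
    · exact Nat.Coprime.pow_right a ((Nat.Prime.coprime_iff_not_dvd hp).2 hpk).symm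
    · have := hkN.gcd_eq
      rw [Nat.gcd_one_left] at this
      exact this
  refine ⟨k, hkcop, ⟨y, ?_⟩, ?_⟩
  · have hkmod : k % p = k₀ := by
      have h1 : k % p = k₀ % p := hkp
      rw [h1, Nat.mod_eq_of_lt hk₀p]
    have hkdec : k = p * (k / p) + k₀ := by
      have := Nat.div_add_mod k p
      omega
    have h1 : ρ (y ^ k) = ρ (y ^ k₀) := by
      rw [map_pow, map_pow, hkdec, pow_add, pow_mul, hTp, one_pow, one_mul]
    have h2 : φ (y ^ k) = φ (y ^ k₀) := by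
      rw [← hρ]
      show LinearMap.trace ℂ _ (ρ (y ^ k)) = LinearMap.trace ℂ _ (ρ (y ^ k₀))
      rw [h1]
    rw [h2]
    exact hk₀ne
  · rintro g z ⟨h, hzh, hcomm, ⟨jz, hjz⟩, hph⟩ hzc
    have hgk : g ^ k = z ^ k * h := by
      rw [← hzh, hcomm.mul_pow]
      congr 1
      have hdvd : orderOf h ∣ N' := by
        have h1 : orderOf h ∣ p ^ a * N' := by rw [hNeq]; exact orderOf_dvd_natCard h
        exact Nat.Coprime.dvd_of_dvd_mul_left
          (Nat.Coprime.pow_right a ((Nat.Prime.coprime_iff_not_dvd hp).2 hph).symm) h1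
      have h2 : k ≡ 1 [MOD orderOf h] := Nat.ModEq.of_dvd hdvd hkN
      have h3 := (pow_eq_pow_iff_modEq (x := h)).2 h2
      rw [pow_one] at h3
      exact h3
    have hzM : z ^ M = 1 := by
      rw [← orderOf_dvd_iff_pow_eq_one, hjz]
      have h1 : p ^ jz ∣ Nat.card G := by rw [← hjz]; exact orderOf_dvd_natCard z
      have h2 : jz ≤ a := (Nat.Prime.pow_dvd_iff_le_factorization hp hN0).1 h1
      exact (pow_dvd_pow p h2).trans hM
    have hzkM : (z ^ k) ^ M = 1 := by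
      rw [← pow_mul, mul_comm, pow_mul, hzM, one_pow]
    rw [hgk, hkill (z ^ k) (Subgroup.pow_mem _ hzc k) hzkM h, ← hzh, hkill z hzc hzM h]

/-- Two irreducible characters different from a third one differ from it simultaneously at some
element. -/
theorem exists_both_ne [Finite G] {φ φ₁ φ₂ : G → ℂ} (h : IsIrrCharacter G φ)
    (h₁ : IsIrrCharacter G φ₁) (h₂ : IsIrrCharacter G φ₂) (hne₁ : φ₁ ≠ φ) (hne₂ : φ₂ ≠ φ) :
    ∃ g, φ₁ g ≠ φ g ∧ φ₂ g ≠ φ g := by
  classical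
  let _ : Fintype G := Fintype.ofFinite G
  by_contra hcon
  push Not at hcon
  have h0 : classInner (φ₁ - φ) (φ₂ - φ) = 0 := by
    unfold classInner
    rw [Finset.sum_eq_zero, mul_zero]
    intro g _
    by_cases hg : φ₁ g = φ g
    · simp [hg]
    · simp [hcon g hg]
  rw [Orth.classInner_sub_left, Cfsg.Agent.Lib.Helper26.GenChar.classInner_sub_right,
    Cfsg.Agent.Lib.Helper26.GenChar.classInner_sub_right] at h0
  have e1 := Wedderburn.irr_orthonormal (⟨φ₁, h₁⟩ : IrrCharacter G) ⟨φ₂, h₂⟩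
  have e2 := Wedderburn.irr_orthonormal (⟨φ₁, h₁⟩ : IrrCharacter G) ⟨φ, h⟩
  have e3 := Wedderburn.irr_orthonormal (⟨φ, h⟩ : IrrCharacter G) ⟨φ₂, h₂⟩
  have e4 := Wedderburn.irr_orthonormal (⟨φ, h⟩ : IrrCharacter G) ⟨φ, h⟩
  simp only [Subtype.mk.injEq] at e1 e2 e3 e4
  rw [if_neg hne₁] at e2
  rw [if_neg (Ne.symm hne₂)] at e3
  simp only [if_true] at e4
  rw [e1, e2, e3, e4] at h0
  split_ifs at h0 <;> norm_num at h0

/-- **Commuting non-central elements.** If `G` has a faithful character of degree `n`, the primes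
`p` and `q` exceed `n + 1`, and `G` has a non-central `p`-element and a non-central `q`-element,
then `G` has a non-central `p`-element and a non-central `q`-element which commute. -/
theorem exists_commuting [Finite G] {p q : ℕ} (hp : p.Prime) (hq : q.Prime)
    {χ : G → ℂ} (hχ : IsCharacter G χ) (hfaith : ∀ g, χ g = χ 1 → g = 1) {n : ℕ}
    (hn : χ 1 = (n : ℂ)) (hnp : n + 1 < p) (hnq : n + 1 < q)
    (x₀ y₀ : G) (hx : ∃ j : ℕ, orderOf x₀ = p ^ j) (hy : ∃ j : ℕ, orderOf y₀ = q ^ j)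
    (hxc : x₀ ∉ Subgroup.center G) (hyc : y₀ ∉ Subgroup.center G) :
    ∃ x y : G, (∃ j : ℕ, orderOf x = p ^ j) ∧ (∃ j : ℕ, orderOf y = q ^ j) ∧
      x ∉ Subgroup.center G ∧ y ∉ Subgroup.center G ∧ x * y = y * x := by
  classical
  by_cases hcomm : x₀ * y₀ = y₀ * x₀
  · exact ⟨x₀, y₀, hx, hy, hxc, hyc, hcomm⟩
  let _ : Fintype G := Fintype.ofFinite G
  have := Wedderburn.finite_irrCharacter G
  let _ : Fintype (IrrCharacter G) := Fintype.ofFinite _
  obtain ⟨m, hm, hexp⟩ := NormOne.exists_mult_sum hχ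
  have hdeg : ∀ ψ : IrrCharacter G, ∃ d : ℕ, 0 < d ∧ (ψ : G → ℂ) 1 = d :=
    fun ψ => Wedderburn.irr_exists_apply_one_pos ψ.2
  choose dg hdgpos hdg using hdeg
  have hχe : ∀ g, χ g = ∑ ψ : IrrCharacter G, (m ψ : ℂ) * (ψ : G → ℂ) g := by
    intro g
    conv_lhs => rw [hexp]
    simp [Finset.sum_apply]
  have hχ1 : n = ∑ ψ : IrrCharacter G, m ψ * dg ψ := by
    have h1 := hχe 1
    rw [hn] at h1
    have h2 : (n : ℂ) = ((∑ ψ : IrrCharacter G, m ψ * dg ψ : ℕ) : ℂ) := by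
      rw [h1]
      push_cast
      exact Finset.sum_congr rfl (fun ψ _ => by rw [hdg ψ])
    exact_mod_cast h2
  have hex : ∃ ψ : IrrCharacter G, m ψ ≠ 0 ∧ ‖(ψ : G → ℂ) x₀‖ ≠ ((ψ : G → ℂ) 1).re ∧
      ‖(ψ : G → ℂ) y₀‖ ≠ ((ψ : G → ℂ) 1).re := by
    by_contra hcon
    push Not at hcon
    apply hcomm
    have hc : ∀ ψ : IrrCharacter G, m ψ ≠ 0 →
        (ψ : G → ℂ) (x₀ * y₀ * x₀⁻¹ * y₀⁻¹) = (ψ : G → ℂ) 1 := by
      intro ψ hmψ
      have hψc := Wedderburn.isCharacter_of_irr ψ.2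
      by_cases hxs : ‖(ψ : G → ℂ) x₀‖ = ((ψ : G → ℂ) 1).re
      · exact Kernel.commutator_of_norm_eq hψc hxs y₀
      · have hys := hcon ψ hmψ hxs
        have h1 := Kernel.commutator_of_norm_eq hψc hys x₀
        obtain ⟨N, hNn, hN⟩ := Kernel.exists_normal_ker hψc
        have h2 : y₀ * x₀ * y₀⁻¹ * x₀⁻¹ ∈ N := (hN _).2 h1
        have h3 : x₀ * y₀ * x₀⁻¹ * y₀⁻¹ = (y₀ * x₀ * y₀⁻¹ * x₀⁻¹)⁻¹ := by group
        rw [h3]
        exact (hN _).1 (N.inv_mem h2)
    have hχc : χ (x₀ * y₀ * x₀⁻¹ * y₀⁻¹) = χ 1 := by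
      rw [hχe, hχe 1]
      apply Finset.sum_congr rfl
      intro ψ _
      by_cases hmψ : m ψ = 0
      · simp [hmψ]
      · rw [hc ψ hmψ]
    have h1 := hfaith _ hχc
    have h2 : x₀ * y₀ = (x₀ * y₀ * x₀⁻¹ * y₀⁻¹) * (y₀ * x₀) := by group
    rw [h2, h1, one_mul]
  obtain ⟨ψ, hmψ, hxψ, hyψ⟩ := hex
  have hdn : dg ψ ≤ n := by
    rw [hχ1]
    calc dg ψ ≤ m ψ * dg ψ := Nat.le_mul_of_pos_left _ (Nat.pos_of_ne_zero hmψ)
      _ ≤ _ := Finset.single_le_sum (f := fun ψ => m ψ * dg ψ) (fun _ _ => Nat.zero_le _)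
          (Finset.mem_univ ψ)
  have hdpos : 0 < dg ψ := hdgpos ψ
  have hN0 : Nat.card G ≠ 0 := Nat.card_pos.ne'
  have hapos : 0 < (Nat.card G).factorization p := by
    apply Nat.Prime.factorization_pos_of_dvd hp hN0
    obtain ⟨j, hj⟩ := hx
    have hj0 : j ≠ 0 := by
      rintro rfl
      rw [pow_zero, orderOf_eq_one_iff] at hj
      exact hxc (hj ▸ Subgroup.one_mem _)
    have h1 : p ∣ orderOf x₀ := by rw [hj]; exact dvd_pow_self p hj0
    exact h1.trans (orderOf_dvd_natCard x₀)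
  have hM1 : 1 < p ^ (Nat.card G).factorization p * q ^ (Nat.card G).factorization q := by
    have h1 : 1 < p ^ (Nat.card G).factorization p := Nat.one_lt_pow hapos.ne' hp.one_lt
    have h2 : 0 < q ^ (Nat.card G).factorization q := pow_pos hq.pos _
    exact lt_of_lt_of_le h1 (Nat.le_mul_of_pos_right _ h2)
  have hdM : (dg ψ).Coprime
      (p ^ (Nat.card G).factorization p * q ^ (Nat.card G).factorization q) := by
    apply Nat.Coprime.mul_right
    · apply Nat.Coprime.pow_right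
      exact ((Nat.Prime.coprime_iff_not_dvd hp).2
        (Nat.not_dvd_of_pos_of_lt hdpos (by omega))).symm
    · apply Nat.Coprime.pow_right
      exact ((Nat.Prime.coprime_iff_not_dvd hq).2
        (Nat.not_dvd_of_pos_of_lt hdpos (by omega))).symm
  obtain ⟨ψ', hψ'irr, hψ'1, hψ'norm, hkill⟩ := exists_twist ψ.2 (hdg ψ) _ hM1 hdM
  have hψ'c := Wedderburn.isCharacter_of_irr hψ'irr
  have hψ'd : ψ' 1 = (dg ψ : ℂ) := by rw [hψ'1]; exact hdg ψ
  have hre : ((ψ : G → ℂ) 1).re = dg ψ := by rw [hdg ψ]; simp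
  have hx' : ψ' x₀ ≠ ψ' 1 := by
    intro h
    apply hxψ
    rw [← hψ'norm, h, hψ'd, hre]
    simp
  have hy' : ψ' y₀ ≠ ψ' 1 := by
    intro h
    apply hyψ
    rw [← hψ'norm, h, hψ'd, hre]
    simp
  obtain ⟨k, hkcop, ⟨g₁, hg₁⟩, hkP⟩ :=
    exists_galois hp hψ'c hψ'd (by omega) _ (Dvd.intro _ rfl) hkill x₀ hx hx'
  obtain ⟨l, hlcop, ⟨g₂, hg₂⟩, hlP⟩ :=
    exists_galois hq hψ'c hψ'd (by omega) _ (Dvd.intro_left _ rfl) hkill y₀ hy hy'
  have hirr₁ := Cfsg.Agent.Lib.Helper76.GaloisConj.isIrrCharacter_pow hψ'irr k hkcop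
  have hirr₂ := Cfsg.Agent.Lib.Helper76.GaloisConj.isIrrCharacter_pow hψ'irr l hlcop
  obtain ⟨g, hgk, hgl⟩ := exists_both_ne hψ'irr hirr₁ hirr₂
    (fun h => hg₁ (congrFun h g₁)) (fun h => hg₂ (congrFun h g₂))
  obtain ⟨zp, hzp⟩ := SectionOrth.exists_isPPart p hp g
  obtain ⟨zq, hzq⟩ := SectionOrth.exists_isPPart q hq g
  obtain ⟨e₁, he₁⟩ := SectionOrth.isPPart_exists_pow hp hzp
  obtain ⟨e₂, he₂⟩ := SectionOrth.isPPart_exists_pow hq hzq
  refine ⟨zp, zq, ?_, ?_, fun hc => hgk (hkP g zp hzp hc), fun hc => hgl (hlP g zq hzq hc), ?_⟩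
  · obtain ⟨_, _, _, h, _⟩ := hzp
    exact h
  · obtain ⟨_, _, _, h, _⟩ := hzq
    exact h
  · rw [he₁, he₂, ← pow_add, ← pow_add, add_comm]

end Cfsg.Agent.Lib.Helper78.GaloisPQ
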