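import Mathlib
import Cfsg.Prelude.Def_Characters
import Cfsg.Prelude.Def_Blocks
import Cfsg.Agent.Lib.CT.NormOne
import Cfsg.Agent.Lib.CT.Kernel
import Cfsg.Agent.Lib.CT.LinChar
import Cfsg.Agent.Lib.CT.Ops
import Cfsg.Agent.Lib.CT.Wedderburn
import Cfsg.Agent.Lib.Helper80.Integrality
import Cfsg.Agent.Lib.Helper78.GaloisPQ

/-!
Abelian Hall subgroups for the large primes of a finite linear group
(namespace `Cfsg.Agent.Lib.Helper78.HallBig`).

Main result `exists_abelian_hall`: a finite group with a faithful character of degree `n` has an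
abelian subgroup whose order involves only primes `> n + 1` and whose index involves none of them.
-/

set_option autoImplicit false

namespace Cfsg.Agent.Lib.Helper78.HallBig

open Cfsg Cfsg.Agent.Lib.CT
open scoped Pointwise

universe u

/-- If `A` is an abelian subgroup of index prime to `q`, the centralizer of any `q`-element has
index dividing the index of `A`. -/
theorem centralizer_index_dvd {H : Type*} [Group H] [Finite H] (A : Subgroup H)
    (hA : ∀ x ∈ A, ∀ y ∈ A, x * y = y * x) {q : ℕ} (hq : q.Prime) (hqA : ¬ q ∣ A.index) (y : H)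
    (hy : ∃ j : ℕ, orderOf y = q ^ j) : (Subgroup.centralizer {y}).index ∣ A.index := by
  have := Fact.mk hq
  obtain ⟨Q⟩ := (inferInstance : Nonempty (Sylow q A))
  let Q' : Subgroup H := (Q : Subgroup A).map A.subtype
  have hcard : Nat.card Q' = q ^ (Nat.card H).factorization q := by
    rw [Subgroup.card_map_of_injective A.subtype_injective, Q.card_eq_multiplicity]
    congr 1
    rw [← A.card_mul_index, Nat.factorization_mul Nat.card_pos.ne' A.index_ne_zero_of_finite,
      Finsupp.add_apply, Nat.factorization_eq_zero_of_not_dvd hqA, add_zero]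
  let Q'' : Sylow q H := Sylow.ofCard Q' hcard
  obtain ⟨j, hj⟩ := hy
  have hz : IsPGroup q (Subgroup.zpowers y) := IsPGroup.of_card (by rw [Nat.card_zpowers, hj])
  obtain ⟨R, hR⟩ := hz.exists_le_sylow
  obtain ⟨g, hg⟩ := MulAction.exists_smul_eq H R Q''
  have hy' : g * y * g⁻¹ ∈ A := by
    have h1 : y ∈ (R : Subgroup H) := hR (Subgroup.mem_zpowers y)
    have h2 : g * y * g⁻¹ ∈ ((g • R : Sylow q H) : Subgroup H) := by
      have h3 : ((g • R : Sylow q H) : Subgroup H) = MulAut.conj g • (R : Subgroup H) := rfl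
      rw [h3]
      exact ⟨y, h1, rfl⟩
    rw [hg] at h2
    have h3 : g * y * g⁻¹ ∈ Q' := h2
    exact Subgroup.map_subtype_le _ h3
  have hle : A.map (MulAut.conj g⁻¹).toMonoidHom ≤ Subgroup.centralizer {y} := by
    rintro x ⟨a, ha, rfl⟩
    rw [Subgroup.mem_centralizer_iff]
    intro h hh
    rw [Set.mem_singleton_iff] at hh
    subst hh
    have h4 := hA a ha _ hy'
    simp only [MulEquiv.coe_toMonoidHom, MulAut.conj_apply, inv_inv]
    have e1 : h * (g⁻¹ * a * g) = g⁻¹ * (g * h * g⁻¹ * a) * g := by group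
    rw [e1, ← h4]
    group
  have h5 := Subgroup.index_dvd_of_le hle
  have h6 := Subgroup.index_map_equiv A (MulAut.conj g⁻¹)
  rw [← h6]
  exact h5

/-- Relative version: `A'` an abelian subgroup of the subgroup `C`, of index in `C` prime to `q`,
and `y ∈ C` a `q`-element. -/
theorem centralizer_index_dvd_rel {G : Type*} [Group G] [Finite G] (C : Subgroup G)
    (A' : Subgroup C) (hA : ∀ x ∈ A', ∀ y ∈ A', x * y = y * x) {q : ℕ} (hq : q.Prime)
    (hqA : ¬ q ∣ A'.index) (y : G) (hyC : y ∈ C) (hy : ∃ j : ℕ, orderOf y = q ^ j) :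
    (Subgroup.centralizer {y}).index ∣ A'.index * C.index := by
  have h1 := centralizer_index_dvd A' hA hq hqA (⟨y, hyC⟩ : C)
    (by simpa [Subgroup.orderOf_mk] using hy)
  have hle : (Subgroup.centralizer {(⟨y, hyC⟩ : C)}).map C.subtype ≤ Subgroup.centralizer {y} := by
    rintro x ⟨a, ha, rfl⟩
    have ha' : a ∈ Subgroup.centralizer {(⟨y, hyC⟩ : C)} := ha
    rw [Subgroup.mem_centralizer_iff] at ha' ⊢
    intro h hh
    rw [Set.mem_singleton_iff] at hh
    subst hh
    have h2 := ha' ⟨h, hyC⟩ rfl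
    exact congrArg Subtype.val h2
  have h3 := Subgroup.index_dvd_of_le hle
  rw [Subgroup.index_map_subtype] at h3
  exact h3.trans (Nat.mul_dvd_mul_right h1 _)

/-- A character of degree `n < p` of a finite `p`-group is trivial on commutators. -/
theorem pgroup_comm {H : Type u} [Group H] [Finite H] {p : ℕ} (hp : p.Prime)
    (hH : ∃ k : ℕ, Nat.card H = p ^ k) {θ : H → ℂ} (hθ : IsCharacter H θ) {n : ℕ}
    (hn : θ 1 = (n : ℂ)) (hnp : n < p) (x y : H) : θ (x * y * x⁻¹ * y⁻¹) = θ 1 := by
  classical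
  let _ : Fintype H := Fintype.ofFinite _
  have := Wedderburn.finite_irrCharacter H
  let _ : Fintype (IrrCharacter H) := Fintype.ofFinite _
  obtain ⟨m, hm, hexp⟩ := NormOne.exists_mult_sum hθ
  have hdeg : ∀ ψ : IrrCharacter H, ∃ d : ℕ, 0 < d ∧ (ψ : H → ℂ) 1 = d :=
    fun ψ => Wedderburn.irr_exists_apply_one_pos ψ.2
  choose dg hdgpos hdg using hdeg
  have hχe : ∀ g : H, θ g = ∑ ψ : IrrCharacter H, (m ψ : ℂ) * (ψ : H → ℂ) g := by
    intro g
    conv_lhs => rw [hexp]
    simp [Finset.sum_apply]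
  have hχ1 : n = ∑ ψ : IrrCharacter H, m ψ * dg ψ := by
    have h1 := hχe 1
    rw [hn] at h1
    have h2 : (n : ℂ) = ((∑ ψ : IrrCharacter H, m ψ * dg ψ : ℕ) : ℂ) := by
      rw [h1]
      push_cast
      exact Finset.sum_congr rfl (fun ψ _ => by rw [hdg ψ])
    exact_mod_cast h2
  have hlin : ∀ ψ : IrrCharacter H, m ψ ≠ 0 → (ψ : H → ℂ) 1 = 1 := by
    intro ψ hmψ
    have hdn : dg ψ ≤ n := by
      rw [hχ1]
      calc dg ψ ≤ m ψ * dg ψ := Nat.le_mul_of_pos_left _ (Nat.pos_of_ne_zero hmψ)
        _ ≤ _ := Finset.single_le_sum (f := fun ψ => m ψ * dg ψ) (fun _ _ => Nat.zero_le _)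
            (Finset.mem_univ ψ)
    have hdvd : dg ψ ∣ Nat.card H := by
      have h1 := Cfsg.Agent.Lib.Helper80.Integrality.charDegree_dvd_card ψ
      have h2 : charDegree (ψ : H → ℂ) = dg ψ := by
        unfold charDegree
        rw [hdg ψ]
        simp
      rwa [h2] at h1
    obtain ⟨k, hk⟩ := hH
    rw [hk] at hdvd
    obtain ⟨i, -, hi⟩ := (Nat.dvd_prime_pow hp).1 hdvd
    have hi0 : i = 0 := by
      by_contra h0
      have h1 : p ≤ p ^ i := Nat.le_self_pow h0 p
      omega
    rw [hdg ψ, hi, hi0, pow_zero, Nat.cast_one]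
  rw [hχe, hχe 1]
  apply Finset.sum_congr rfl
  intro ψ _
  by_cases hmψ : m ψ = 0
  · simp [hmψ]
  · have hψc := Wedderburn.isCharacter_of_irr ψ.2
    have hψ1 := hlin ψ hmψ
    rw [LinChar.linear_mul hψc hψ1, LinChar.linear_mul hψc hψ1, LinChar.linear_mul hψc hψ1,
      LinChar.linear_inv hψc hψ1, LinChar.linear_inv hψc hψ1, hψ1]
    have hx0 := LinChar.linear_ne_zero hψc hψ1 x
    have hy0 := LinChar.linear_ne_zero hψc hψ1 y
    congr 1
    field_simp

variable {G : Type u} [Group G]

/-- Sylow `p`-subgroups of a linear group of degree `n < p` are abelian. -/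
theorem sylow_comm [Finite G] {p : ℕ} [hp : Fact p.Prime] {χ : G → ℂ} (hχ : IsCharacter G χ)
    (hfaith : ∀ g, χ g = χ 1 → g = 1) {n : ℕ} (hn : χ 1 = (n : ℂ)) (hnp : n < p)
    (P : Sylow p G) : ∀ x ∈ (P : Subgroup G), ∀ y ∈ (P : Subgroup G), x * y = y * x := by
  intro x hx y hy
  have hθ : IsCharacter (P : Subgroup G) (fun k : (P : Subgroup G) => χ k) :=
    Ops.isCharacter_restrict (P : Subgroup G) hχ
  have hcomm := pgroup_comm hp.out ⟨_, P.card_eq_multiplicity⟩ hθ (n := n)
    (by rw [Subgroup.coe_one]; exact hn) hnp ⟨x, hx⟩ ⟨y, hy⟩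
  have hcomm' : χ (x * y * x⁻¹ * y⁻¹) = χ 1 := hcomm
  have h1 := hfaith _ hcomm'
  have h2 : x * y = (x * y * x⁻¹ * y⁻¹) * (y * x) := by group
  rw [h2, h1, one_mul]

/-- In a linear group of degree `n < p`, centralizers of `p`-elements have index prime to `p`. -/
theorem not_dvd_centralizer_index [Finite G] {p : ℕ} (hp : p.Prime) {χ : G → ℂ}
    (hχ : IsCharacter G χ) (hfaith : ∀ g, χ g = χ 1 → g = 1) {n : ℕ} (hn : χ 1 = (n : ℂ))
    (hnp : n < p) (x : G) (hx : ∃ j : ℕ, orderOf x = p ^ j) :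
    ¬ p ∣ (Subgroup.centralizer {x}).index := by
  have := Fact.mk hp
  obtain ⟨j, hj⟩ := hx
  have hz : IsPGroup p (Subgroup.zpowers x) := IsPGroup.of_card (by rw [Nat.card_zpowers, hj])
  obtain ⟨P, hP⟩ := hz.exists_le_sylow
  have hxP : x ∈ (P : Subgroup G) := hP (Subgroup.mem_zpowers x)
  have hle : (P : Subgroup G) ≤ Subgroup.centralizer {x} := by
    intro g hg
    rw [Subgroup.mem_centralizer_iff]
    intro h hh
    rw [Set.mem_singleton_iff] at hh
    subst hh
    exact sylow_comm hχ hfaith hn hnp P h hxP g hg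
  intro hdvd
  exact P.not_dvd_index (hdvd.trans (Subgroup.index_dvd_of_le hle))

/-- The induction behind `exists_abelian_hall`. -/
theorem hall_aux (n : ℕ) : ∀ (N : ℕ) (G : Type u) [Group G] [Finite G], Nat.card G = N →
    ∀ χ : G → ℂ, IsCharacter G χ → (∀ g, χ g = χ 1 → g = 1) → χ 1 = (n : ℂ) →
    ∃ A : Subgroup G, (∀ x ∈ A, ∀ y ∈ A, x * y = y * x) ∧
      (∀ q : ℕ, q.Prime → q ∣ Nat.card A → n + 1 < q) ∧
      ∀ q : ℕ, q.Prime → q ∣ A.index → q ≤ n + 1 := by
  intro N
  induction N using Nat.strong_induction_on with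
  | _ N ih =>
  intro G _ _ hcard χ hχ hfaith hn
  have ihC : ∀ C : Subgroup G, C ≠ ⊤ → ∃ A' : Subgroup C,
      (∀ x ∈ A', ∀ y ∈ A', x * y = y * x) ∧
      (∀ q : ℕ, q.Prime → q ∣ Nat.card A' → n + 1 < q) ∧
      ∀ q : ℕ, q.Prime → q ∣ A'.index → q ≤ n + 1 := by
    intro C hC
    have hlt : Nat.card C < N := by
      rw [← hcard]
      apply lt_of_le_of_ne (Subgroup.card_le_card_group C)
      intro h
      exact hC (Subgroup.eq_top_of_card_eq C h)
    exact ih (Nat.card C) hlt C rfl (fun c : C => χ c) (Ops.isCharacter_restrict C hχ)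
      (fun c hc => Subtype.ext (hfaith c (by simpa using hc))) (by simpa using hn)
  by_cases hA : ∀ p : ℕ, p.Prime → n + 1 < p → ∀ x : G, (∃ j : ℕ, orderOf x = p ^ j) →
      x ∈ Subgroup.center G
  · let A : Subgroup G :=
      { carrier := {z | z ∈ Subgroup.center G ∧ ∀ r : ℕ, r.Prime → r ∣ orderOf z → n + 1 < r}
        one_mem' := ⟨Subgroup.one_mem _, fun r hr hdvd => by
          rw [orderOf_one] at hdvd
          exact absurd (Nat.dvd_one.1 hdvd) hr.ne_one⟩
        mul_mem' := by
          rintro z w ⟨hz, hz'⟩ ⟨hw, hw'⟩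
          refine ⟨Subgroup.mul_mem _ hz hw, fun r hr hdvd => ?_⟩
          have hcomm : Commute z w := Subgroup.mem_center_iff.1 hw z
          have h1 := hdvd.trans hcomm.orderOf_mul_dvd_lcm
          have h2 := h1.trans (Nat.lcm_dvd_mul _ _)
          rcases (Nat.Prime.dvd_mul hr).1 h2 with h3 | h3
          · exact hz' r hr h3
          · exact hw' r hr h3
        inv_mem' := by
          rintro z ⟨hz, hz'⟩
          exact ⟨Subgroup.inv_mem _ hz, fun r hr hdvd =>
            hz' r hr (by rwa [orderOf_inv] at hdvd)⟩ }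
    refine ⟨A, ?_, ?_, ?_⟩
    · rintro x ⟨hx, -⟩ y -
      exact (Subgroup.mem_center_iff.1 hx y).symm
    · intro q hq hdvd
      have := Fact.mk hq
      obtain ⟨a, ha⟩ := exists_prime_orderOf_dvd_card' q hdvd
      have h1 : orderOf (a : G) = q := by rw [Subgroup.orderOf_coe]; exact ha
      exact a.2.2 q hq (by rw [h1])
    · intro q hq hdvd
      by_contra hlt
      push Not at hlt
      have := Fact.mk hq
      obtain ⟨Q⟩ := (inferInstance : Nonempty (Sylow q G))
      have hle : (Q : Subgroup G) ≤ A := by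
        intro g hg
        obtain ⟨j, hj⟩ := (IsPGroup.iff_orderOf.1 Q.isPGroup') ⟨g, hg⟩
        have hj' : orderOf g = q ^ j := by rw [← hj, Subgroup.orderOf_mk]
        refine ⟨hA q hq hlt g ⟨j, hj'⟩, fun r hr hdvd => ?_⟩
        rw [hj'] at hdvd
        have h2 := (Nat.prime_dvd_prime_iff_eq hr hq).1 (hr.dvd_of_dvd_pow hdvd)
        rw [h2]
        exact hlt
      exact Q.not_dvd_index (hdvd.trans (Subgroup.index_dvd_of_le hle))
  · push Not at hA
    obtain ⟨p, hp, hnp, x₀, hx₀, hx₀c⟩ := hA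
    have hnoncentral : ∀ x : G, x ∉ Subgroup.center G → Subgroup.centralizer {x} ≠ ⊤ := by
      intro x hx htop
      apply hx
      rw [Subgroup.mem_center_iff]
      intro g
      have hg : g ∈ Subgroup.centralizer {x} := by rw [htop]; exact Subgroup.mem_top g
      rw [Subgroup.mem_centralizer_iff] at hg
      exact (hg x rfl).symm
    have hkey : ∀ q : ℕ, q.Prime → n + 1 < q →
        ¬ q ∣ (Subgroup.centralizer {x₀}).index := by
      intro q hq hnq
      by_cases hqp : q = p
      · subst hqp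
        exact not_dvd_centralizer_index hq hχ hfaith hn (by omega) x₀ hx₀
      by_cases hqc : ∀ y : G, (∃ j : ℕ, orderOf y = q ^ j) → y ∈ Subgroup.center G
      · have := Fact.mk hq
        obtain ⟨Q⟩ := (inferInstance : Nonempty (Sylow q G))
        have hle : (Q : Subgroup G) ≤ Subgroup.centralizer {x₀} := by
          intro g hg
          obtain ⟨j, hj⟩ := (IsPGroup.iff_orderOf.1 Q.isPGroup') ⟨g, hg⟩
          have hj' : orderOf g = q ^ j := by rw [← hj, Subgroup.orderOf_mk]
          exact Subgroup.center_le_centralizer _ (hqc g ⟨j, hj'⟩)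
        intro hdvd
        exact Q.not_dvd_index (hdvd.trans (Subgroup.index_dvd_of_le hle))
      · push Not at hqc
        obtain ⟨y₀, hy₀, hy₀c⟩ := hqc
        obtain ⟨x₁, y₁, hx₁, hy₁, hx₁c, hy₁c, hxy⟩ :=
          GaloisPQ.exists_commuting hp hq hχ hfaith hn hnp hnq x₀ y₀ hx₀ hy₀ hx₀c hy₀c
        obtain ⟨A₁, hA₁ab, -, hA₁idx⟩ := ihC _ (hnoncentral x₁ hx₁c)
        have hy₁C : y₁ ∈ Subgroup.centralizer {x₁} := by
          rw [Subgroup.mem_centralizer_iff]
          intro h hh
          rw [Set.mem_singleton_iff] at hh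
          subst hh
          exact hxy
        have h1 := centralizer_index_dvd_rel _ A₁ hA₁ab hq
          (fun h => by have := hA₁idx q hq h; omega) y₁ hy₁C hy₁
        have hp1 : ¬ p ∣ (Subgroup.centralizer {y₁}).index := by
          intro hdvd
          rcases (Nat.Prime.dvd_mul hp).1 (hdvd.trans h1) with h2 | h2
          · have := hA₁idx p hp h2
            omega
          · exact not_dvd_centralizer_index hp hχ hfaith hn (by omega) x₁ hx₁ h2
        obtain ⟨A₂, hA₂ab, -, hA₂idx⟩ := ihC _ (hnoncentral y₁ hy₁c)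
        have hq2 : ¬ q ∣ (Subgroup.centralizer {y₁}).index :=
          not_dvd_centralizer_index hq hχ hfaith hn (by omega) y₁ hy₁
        have hBab : ∀ x ∈ A₂.map (Subgroup.centralizer {y₁}).subtype,
            ∀ y ∈ A₂.map (Subgroup.centralizer {y₁}).subtype, x * y = y * x := by
          rintro x ⟨a, ha, rfl⟩ y ⟨b, hb, rfl⟩
          exact congrArg Subtype.val (hA₂ab a ha b hb)
        have hBidx : (A₂.map (Subgroup.centralizer {y₁}).subtype).index =
            A₂.index * (Subgroup.centralizer {y₁}).index := Subgroup.index_map_subtype A₂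
        have hpB : ¬ p ∣ (A₂.map (Subgroup.centralizer {y₁}).subtype).index := by
          rw [hBidx]
          intro hdvd
          rcases (Nat.Prime.dvd_mul hp).1 hdvd with h2 | h2
          · have := hA₂idx p hp h2
            omega
          · exact hp1 h2
        have hqB : ¬ q ∣ (A₂.map (Subgroup.centralizer {y₁}).subtype).index := by
          rw [hBidx]
          intro hdvd
          rcases (Nat.Prime.dvd_mul hq).1 hdvd with h2 | h2
          · have := hA₂idx q hq h2
            omega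
          · exact hq2 h2
        have h3 := centralizer_index_dvd _ hBab hp hpB x₀ hx₀
        intro hdvd
        exact hqB (hdvd.trans h3)
    obtain ⟨A₀, hA₀ab, hA₀card, hA₀idx⟩ := ihC _ (hnoncentral x₀ hx₀c)
    refine ⟨A₀.map (Subgroup.centralizer {x₀}).subtype, ?_, ?_, ?_⟩
    · rintro x ⟨a, ha, rfl⟩ y ⟨b, hb, rfl⟩
      exact congrArg Subtype.val (hA₀ab a ha b hb)
    · intro q hq hdvd
      rw [Subgroup.card_map_of_injective (Subgroup.subtype_injective _)] at hdvd
      exact hA₀card q hq hdvd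
    · intro q hq hdvd
      rw [Subgroup.index_map_subtype] at hdvd
      rcases (Nat.Prime.dvd_mul hq).1 hdvd with h2 | h2
      · exact hA₀idx q hq h2
      · by_contra hlt
        push Not at hlt
        exact hkey q hq hlt h2

/-- **Abelian Hall subgroup for the large primes.** A finite group with a faithful character of
degree `n` has an abelian subgroup whose order is divisible only by primes `> n + 1` and whose
index is divisible by no such prime. -/
theorem exists_abelian_hall [Finite G] {χ : G → ℂ} (hχ : IsCharacter G χ)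
    (hfaith : ∀ g, χ g = χ 1 → g = 1) {n : ℕ} (hn : χ 1 = (n : ℂ)) :
    ∃ A : Subgroup G, (∀ x ∈ A, ∀ y ∈ A, x * y = y * x) ∧
      (∀ q : ℕ, q.Prime → q ∣ Nat.card A → n + 1 < q) ∧
      ∀ q : ℕ, q.Prime → q ∣ A.index → q ≤ n + 1 :=
  hall_aux n (Nat.card G) G rfl χ hχ hfaith hn

/-- The value at `1` of a character is its degree. -/
theorem apply_one_eq_charDegree {χ : G → ℂ} (hχ : IsCharacter G χ) :
    χ 1 = (charDegree χ : ℂ) := by
  obtain ⟨m, ρ, hρ⟩ := hχ
  have h1 : χ 1 = (m : ℂ) := by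
    rw [← hρ, Representation.char_one, Module.finrank_fin_fun]
  unfold charDegree
  rw [h1]
  simp

end Cfsg.Agent.Lib.Helper78.HallBig
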