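import Cfsg.Agent.Lib.Helper25.AICSpec

/-!
S2202 piece D2a: in the situation `DSet G S Y` some involution lies outside `Y`.
-/

set_option autoImplicit false

namespace Cfsg.Agent.Lib.Helper78.AICD2a

open Subgroup Cfsg.Agent.Lib.Helper25.AICSpec

universe u

theorem main : D2a.{u} := by
  intro G _ _ S Y h
  by_contra hcon
  push Not at hcon
  apply h.ne_top
  rw [eq_top_iff]
  intro g _
  obtain ⟨l, hl, c, hc, rfl⟩ := h.loc.l5.gen g
  have hInv : Cfsg.Agent.Lib.Helper25.AICSpec.Inv G ≤ Y := by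
    unfold Cfsg.Agent.Lib.Helper25.AICSpec.Inv
    rw [closure_le]
    intro t ht
    exact hcon t ht
  exact Y.mul_mem (hInv hl) (h.le (h.loc.l1.cle hc))

end Cfsg.Agent.Lib.Helper78.AICD2a
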