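import Cfsg.Agent.Lib.Helper25.AICSpec

/-!
S2202 piece D2b: `W = Y ∩ Y^w` has odd order.
-/

set_option autoImplicit false

namespace Cfsg.Agent.Lib.Helper78.AICD2b

open Subgroup Cfsg.Agent.Lib.Helper25.AICSpec

universe u

/-- an involution of a subgroup `Y` containing the Sylow 2-subgroup `S` is `Y`-conjugate into
`S` -/
theorem exists_conj_mem_sylow {G : Type u} [Group G] [Finite G] (S : Sylow 2 G) (Y : Subgroup G)
    (hSY : (S : Subgroup G) ≤ Y) (x : G) (hxY : x ∈ Y) (hx : orderOf x = 2) :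
    ∃ y ∈ Y, y⁻¹ * x * y ∈ S := by
  have hfact : Fact (Nat.Prime 2) := ⟨Nat.prime_two⟩
  have hP : IsPGroup 2 (zpowers (⟨x, hxY⟩ : Y)) := by
    apply IsPGroup.of_card (n := 1)
    rw [Nat.card_zpowers, pow_one, ← hx]
    exact Subgroup.orderOf_mk x hxY
  obtain ⟨P, hP'⟩ := hP.exists_le_sylow
  obtain ⟨g, hg⟩ := MulAction.exists_smul_eq Y P (S.subtype hSY)
  refine ⟨(g : G)⁻¹, Y.inv_mem g.2, ?_⟩
  have hxP : (⟨x, hxY⟩ : Y) ∈ P := hP' (mem_zpowers _)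
  have h1 : g * (⟨x, hxY⟩ : Y) * g⁻¹ ∈ (g • P : Sylow 2 Y) := by
    show g * (⟨x, hxY⟩ : Y) * g⁻¹ ∈ ((g • P : Sylow 2 Y) : Subgroup Y)
    rw [Sylow.coe_subgroup_smul]
    rw [Subgroup.mem_pointwise_smul_iff_inv_smul_mem]
    have : (MulAut.conj g)⁻¹ • (g * (⟨x, hxY⟩ : Y) * g⁻¹) = ⟨x, hxY⟩ := by
      rw [MulAut.smul_def]
      simp only [MulAut.conj_inv_apply]
      group
    rw [this]
    exact hxP
  rw [hg] at h1
  have h2 : ((g * (⟨x, hxY⟩ : Y) * g⁻¹ : Y) : G) ∈ S := by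
    have h1' : g * (⟨x, hxY⟩ : Y) * g⁻¹ ∈ ((S.subtype hSY : Sylow 2 Y) : Subgroup Y) := h1
    rw [Sylow.coe_subtype, Subgroup.mem_subgroupOf] at h1'
    exact h1'
  simpa using h2

theorem main : D2b.{u} := by
  intro G _ _ S Y h w hw hwY
  have hfact : Fact (Nat.Prime 2) := ⟨Nat.prime_two⟩
  have hSY : (S : Subgroup G) ≤ Y := fun s hs => h.le (h.loc.l1.cle (h.loc.l1.le hs))
  rw [← Nat.not_even_iff_odd, even_iff_two_dvd]
  intro hdvd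
  obtain ⟨x, hx⟩ := exists_prime_orderOf_dvd_card' (G := Wsub Y w) 2 hdvd
  have hxo : orderOf (x : G) = 2 := by rw [Subgroup.orderOf_coe]; exact hx
  have hxY : (x : G) ∈ Y := x.2.1
  have hxY' : w * (x : G) * w⁻¹ ∈ Y := x.2.2
  have hxo' : orderOf (w * (x : G) * w⁻¹) = 2 := by
    have := MulEquiv.orderOf_eq (MulAut.conj w) (x : G)
    rw [MulAut.conj_apply] at this
    rw [this]
    exact hxo
  obtain ⟨y, hy, hys⟩ := exists_conj_mem_sylow S Y hSY (x : G) hxY hxo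
  obtain ⟨y', hy', hys'⟩ := exists_conj_mem_sylow S Y hSY _ hxY' hxo'
  have hne : y⁻¹ * (x : G) * y ≠ 1 := by
    intro h1
    have : (x : G) = 1 := by
      have h2 : (x : G) = y * (y⁻¹ * (x : G) * y) * y⁻¹ := by group
      rw [h2, h1]
      group
    rw [this, orderOf_one] at hxo
    omega
  have hmem : y⁻¹ * w⁻¹ * y' ∈ NS S := by
    apply h.loc.l1.ti (y⁻¹ * w⁻¹ * y') (y⁻¹ * (x : G) * y) hys hne
    have : (y⁻¹ * w⁻¹ * y')⁻¹ * (y⁻¹ * (x : G) * y) * (y⁻¹ * w⁻¹ * y')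
        = y'⁻¹ * (w * (x : G) * w⁻¹) * y' := by group
    rw [this]
    exact hys'
  apply hwY
  have h3 : y⁻¹ * w⁻¹ * y' ∈ Y := h.le hmem
  have h4 : (y * (y⁻¹ * w⁻¹ * y') * y'⁻¹)⁻¹ ∈ Y :=
    Y.inv_mem (Y.mul_mem (Y.mul_mem hy h3) (Y.inv_mem hy'))
  have h5 : (y * (y⁻¹ * w⁻¹ * y') * y'⁻¹)⁻¹ = w := by group
  rw [h5] at h4
  exact h4

end Cfsg.Agent.Lib.Helper78.AICD2b
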