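import Cfsg.Agent.Lib.Helper25.AICSpec

/-!
S2202 piece D2c: `W = Y ∩ Y^w` meets every coset of `H` in `Y`.
-/

set_option autoImplicit false

namespace Cfsg.Agent.Lib.Helper78.AICD2c

open Subgroup Cfsg.Agent.Lib.Helper25.AICSpec

universe u

theorem main : D2c.{u} := by
  intro G _ _ S Y h w hw hwY y hy
  have hw2 : w * w = 1 := by
    have := pow_orderOf_eq_one w
    rw [hw, pow_two] at this
    exact this
  have hwinv : w⁻¹ = w := inv_eq_of_mul_eq_one_left hw2
  have hyw : y * w ∉ NS S := by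
    intro hmem
    apply hwY
    have h1 : y * w ∈ Y := h.le hmem
    have h2 : y⁻¹ * (y * w) ∈ Y := Y.mul_mem (Y.inv_mem hy) h1
    simpa using h2
  have hcard := h.loc.coset (y * w) hyw
  have hpos : 0 < Nat.card {h' : G // h' ∈ NS S ∧ orderOf (h' * (y * w)) = 2} := by
    rw [hcard]
    have := h.loc.three
    omega
  have hne : Nonempty {h' : G // h' ∈ NS S ∧ orderOf (h' * (y * w)) = 2} :=
    (Nat.card_pos_iff.mp hpos).1
  obtain ⟨⟨h', hh', ho⟩⟩ := hne
  have hsq : (h' * (y * w)) * (h' * (y * w)) = 1 := by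
    have := pow_orderOf_eq_one (h' * (y * w))
    rw [ho, pow_two] at this
    exact this
  have hxY : h' * y ∈ Y := Y.mul_mem (h.le hh') hy
  refine ⟨h' * y, ?_, ?_⟩
  · refine ⟨hxY, ?_⟩
    show (MulAut.conj w).toMonoidHom (h' * y) ∈ Y
    have hconj : w * (h' * y) * w⁻¹ = (h' * y)⁻¹ := by
      rw [hwinv]
      have h3 : (h' * y) * (w * (h' * y) * w) = 1 := by
        have : (h' * y) * (w * (h' * y) * w) = (h' * (y * w)) * (h' * (y * w)) := by group
        rw [this, hsq]
      exact (inv_eq_of_mul_eq_one_right h3).symm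
    have : (MulAut.conj w).toMonoidHom (h' * y) = w * (h' * y) * w⁻¹ := rfl
    rw [this, hconj]
    exact Y.inv_mem hxY
  · have : h' * y * y⁻¹ = h' := by group
    rw [this]
    exact hh'

end Cfsg.Agent.Lib.Helper78.AICD2c
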