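import Cfsg.Agent.Lib.Helper25.AICSpec

/-!
S2202 piece D2d: `|W ∩ H| = (q - 1) |W ∩ C|` for `W = Y ∩ Y^w`.
-/

set_option autoImplicit false

namespace Cfsg.Agent.Lib.Helper78.AICD2d

open Subgroup Cfsg.Agent.Lib.Helper25.AICSpec

universe u

theorem main : D2d.{u} := by
  intro G _ _ S Y h w hw hwY
  have hw2 : w * w = 1 := by
    have := pow_orderOf_eq_one w
    rw [hw, pow_two] at this
    exact this
  have hwinv : w⁻¹ = w := inv_eq_of_mul_eq_one_left hw2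
  have hwH : w ∉ NS S := fun hmem => hwY (h.le hmem)
  -- the elements inverted by `w` lie in `W`
  have hJW : ∀ d : G, d ∈ NS S → w * d * w = d⁻¹ → d ∈ Wsub Y w := by
    intro d hd hdw
    refine ⟨h.le hd, ?_⟩
    show (MulAut.conj w).toMonoidHom d ∈ Y
    have : (MulAut.conj w).toMonoidHom d = w * d * w⁻¹ := rfl
    rw [this, hwinv, hdw]
    exact Y.inv_mem (h.le hd)
  rw [← h.loc.l4.jcard w hw hwH, ← Nat.card_prod]
  symm
  let f : {d : G // d ∈ NS S ∧ w * d * w = d⁻¹} × (Wsub Y w ⊓ CS S : Subgroup G) →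
      (Wsub Y w ⊓ NS S : Subgroup G) := fun p =>
    ⟨(p.2 : G) * (p.1 : G), ⟨(Wsub Y w).mul_mem p.2.2.1 (hJW _ p.1.2.1 p.1.2.2),
      (NS S).mul_mem (h.loc.l1.cle p.2.2.2) p.1.2.1⟩⟩
  apply Nat.card_eq_of_bijective f
  constructor
  · rintro ⟨⟨d, hd, hdw⟩, ⟨c, hcW, hcC⟩⟩ ⟨⟨d', hd', hdw'⟩, ⟨c', hcW', hcC'⟩⟩ hEq
    have hEq' : c * d = c' * d' := congrArg Subtype.val hEq
    have hdd : d' * d⁻¹ ∈ CS S := by
      have : d' * d⁻¹ = c'⁻¹ * c := by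
        have h1 : d' = c'⁻¹ * (c * d) := by rw [hEq']; group
        rw [h1]; group
      rw [this]
      exact (CS S).mul_mem ((CS S).inv_mem hcC') hcC
    have hd_eq : d = d' := h.loc.l4.transv_inj w hw hwH d d' hd hd' hdw hdw' hdd
    subst hd_eq
    have hc_eq : c = c' := mul_right_cancel hEq'
    subst hc_eq
    rfl
  · rintro ⟨p, hpW, hpH⟩
    obtain ⟨d, hd, hdw, hpd⟩ := h.loc.l4.transv w hw hwH p hpH
    refine ⟨⟨⟨d, hd, hdw⟩, ⟨p * d⁻¹, (Wsub Y w).mul_mem hpW ((Wsub Y w).inv_mem (hJW d hd hdw)),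
      hpd⟩⟩, ?_⟩
    apply Subtype.ext
    show p * d⁻¹ * d = p
    group

end Cfsg.Agent.Lib.Helper78.AICD2d
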