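import Mathlib
import Cfsg.Agent.Lib.Helper78.PRQC1
import Cfsg.Agent.Lib.Helper78.PRQArith
import Cfsg.Agent.Lib.Helper1.PRQSylow
import Cfsg.Agent.Lib.Helper82.PRQPkg
import Cfsg.Agent.Lib.CT.PairCount
import Cfsg.Agent.Lib.CT.NormOne
import Cfsg.Agent.Lib.Helper80.DefOneLoc

/-!
# S0998: reduction to the numerical cases `(5, 3, 2)` and `(7, 3, 2)`
-/

set_option autoImplicit false

namespace Cfsg.Agent.Lib.Helper78.PRQRed

open Cfsg Cfsg.Agent.Lib.Helper78.PRQDefs Cfsg.Agent.Lib.CT.Wedderburn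
  Cfsg.Agent.Lib.Helper78.PRQC1

open scoped ComplexConjugate

universe u

/-- The case `ε = -1`. -/
theorem c2 {G : Type u} [Group G] [Finite G] (p q r b e : ℕ) (hp : p.Prime) (hq : q.Prime)
    (hr : r.Prime) (hrp : r < p) (hr3 : 3 ≤ r) (P : Subgroup G)
    (X Y : Finset (IrrCharacter G)) (εX : IrrCharacter G → ℤ)
    (h : Pkg p P e X Y εX (-1))
    (τ : IrrCharacter G) (hτ : ∀ g : G, (τ : G → ℂ) g = 1) (hτX : τ ∈ X)
    (hY : ∀ θ ∈ Y, charDegree (θ : G → ℂ) = r)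
    (hXq : ∀ χ ∈ X, χ ≠ τ → q ∣ charDegree (χ : G → ℂ) ∧ charDegree (χ : G → ℂ) ∣ r * q ^ b)
    (he : e + r = p) (he1 : 1 < e) (hep : e ∣ p - 1) (heq : e ∣ r * q ^ b)
    (hqr1 : q ∣ r - 1) :
    p = 5 ∧ r = 3 ∧ q = 2 := by
  classical
  have hr2 := hr.two_le
  have hYne : Y.Nonempty := by
    rw [← Finset.card_pos, h.cardY]
    exact Nat.div_pos (Nat.le_of_dvd (by omega) hep) (by omega)
  obtain ⟨θ, hθ⟩ := hYne
  have hrel := rel_one hp h θ hθ
  rw [hY θ hθ, ← Finset.insert_erase hτX, Finset.sum_insert (Finset.notMem_erase _ _)] at hrel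
  have hdτ : charDegree (τ : G → ℂ) = 1 := charDegree_eq_of_apply_one (by rw [hτ 1]; simp)
  have hετ : εX τ = 1 := by
    rcases h.signX τ hτX with h1 | h1
    · exact h1
    · exfalso
      have h2 := h.degX τ hτX
      rw [hdτ, h1] at h2
      have h3 : (p : ℤ) ∣ -1 - ((1 : ℕ) : ℤ) := h2.dvd
      have h4 : (p : ℤ) ∣ 2 := by
        have := dvd_neg.mpr h3
        simpa using this
      have := Int.le_of_dvd (by norm_num) h4
      omega
  rw [hετ, hdτ] at hrel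
  set S := ∑ χ ∈ X.erase τ, εX χ * (charDegree (χ : G → ℂ) : ℤ) with hS
  have hSval : S = -((r : ℤ) + 1) := by
    push_cast at hrel
    linarith
  have hqS : (q : ℤ) ∣ S := Finset.dvd_sum fun χ hχ => Dvd.dvd.mul_left
    (by exact_mod_cast (hXq χ (Finset.mem_of_mem_erase hχ) (Finset.ne_of_mem_erase hχ)).1) _
  have hq1 : q ∣ r + 1 := by
    rw [hSval] at hqS
    have := dvd_neg.mp hqS
    exact_mod_cast this
  have hq2 : q = 2 := by
    have h1 : q ∣ (r + 1) - (r - 1) := Nat.dvd_sub hq1 hqr1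
    have h2 : (r + 1) - (r - 1) = 2 := by omega
    rw [h2] at h1
    exact (Nat.prime_dvd_prime_iff_eq hq Nat.prime_two).mp h1
  subst hq2
  have her : e ∣ r - 1 := by
    have h1 : p - 1 = e + (r - 1) := by omega
    rw [h1] at hep
    exact (Nat.dvd_add_right dvd_rfl).mp hep
  have hcop : Nat.Coprime e r := by
    have hg := Nat.gcd_dvd_left e r
    have hg' := Nat.gcd_dvd_right e r
    have h1 : Nat.gcd e r ∣ r - 1 := hg.trans her
    have h2 : Nat.gcd e r ∣ r - (r - 1) := Nat.dvd_sub hg' h1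
    have h3 : r - (r - 1) = 1 := by omega
    rw [h3] at h2
    exact Nat.dvd_one.mp h2
  have he2 : e ∣ 2 ^ b := (Nat.Coprime.dvd_mul_left hcop).mp heq
  obtain ⟨k, hkb, hk⟩ := (Nat.dvd_prime_pow Nat.prime_two).mp he2
  subst hk
  have hk1 : 1 ≤ k := by
    rcases Nat.eq_zero_or_pos k with h0 | h0
    · subst h0
      simp at he1
    · exact h0
  rcases Nat.lt_or_ge k 2 with hk2 | hk2
  · have hk' : k = 1 := by omega
    subst hk'
    have hcard : X.card = 2 := by rw [h.cardX]; norm_num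
    have hcard' : (X.erase τ).card = 1 := by rw [Finset.card_erase_of_mem hτX, hcard]
    obtain ⟨χ, hχ⟩ := Finset.card_eq_one.mp hcard'
    have hχm : χ ∈ X.erase τ := by rw [hχ]; exact Finset.mem_singleton_self χ
    have hχX := Finset.mem_of_mem_erase hχm
    have hχne := Finset.ne_of_mem_erase hχm
    have hS2 : S = εX χ * (charDegree (χ : G → ℂ) : ℤ) := by rw [hS, hχ, Finset.sum_singleton]
    have hdpos : 0 < charDegree (χ : G → ℂ) := irr_charDegree_pos χ.2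
    have hdeg : charDegree (χ : G → ℂ) = r + 1 := by
      rcases h.signX χ hχX with h1 | h1 <;> rw [h1] at hS2 <;> rw [hS2] at hSval <;> omega
    have hd2 := (hXq χ hχX hχne).2
    rw [hdeg] at hd2
    have hcop2 : Nat.Coprime (r + 1) r := by simp
    have h3 : r + 1 ∣ 2 ^ b := (Nat.Coprime.dvd_mul_left hcop2).mp hd2
    obtain ⟨i, _, hi⟩ := (Nat.dvd_prime_pow Nat.prime_two).mp h3
    have hp' : (r + 2).Prime := by
      have : r + 2 = p := by omega
      rw [this]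
      exact hp
    have hr3' := Cfsg.Agent.Lib.Helper78.PRQArith.za hr hp' hi
    exact ⟨by omega, hr3', rfl⟩
  · exfalso
    have h4e : 4 ∣ 2 ^ k := by
      have : 2 ^ 2 ∣ 2 ^ k := Nat.pow_dvd_pow 2 hk2
      simpa using this
    have h4r : 4 ∣ r - 1 := h4e.trans her
    have hex : ∃ χ ∈ X.erase τ, charDegree (χ : G → ℂ) % 4 = 2 := by
      by_contra hno
      push Not at hno
      have h4S : (4 : ℤ) ∣ S := by
        refine Finset.dvd_sum fun χ hχ => ?_
        have h1 := (hXq χ (Finset.mem_of_mem_erase hχ) (Finset.ne_of_mem_erase hχ)).1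
        have h2 := hno χ hχ
        have h3 : 4 ∣ charDegree (χ : G → ℂ) := by omega
        exact Dvd.dvd.mul_left (by exact_mod_cast h3) _
      rw [hSval] at h4S
      omega
    obtain ⟨χ, hχm, hχ4⟩ := hex
    have hχX := Finset.mem_of_mem_erase hχm
    have hχne := Finset.ne_of_mem_erase hχm
    have hd2 := (hXq χ hχX hχne).2
    obtain ⟨m, hm⟩ : ∃ m, charDegree (χ : G → ℂ) = 2 * m :=
      ⟨charDegree (χ : G → ℂ) / 2, by omega⟩
    have hmodd : m % 2 = 1 := by omega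
    have hm1 : m ∣ r := by
      have h1 : m ∣ r * 2 ^ b := (Dvd.intro_left 2 hm.symm).trans hd2
      have hc : Nat.Coprime m (2 ^ b) :=
        Nat.Coprime.pow_right b (Nat.coprime_two_right.mpr (Nat.odd_iff.mpr hmodd))
      exact (Nat.Coprime.dvd_mul_right hc).mp h1
    have hdX := h.degX χ hχX
    have hpr : (p : ℤ) = (r : ℤ) + 2 ^ k := by
      have : p = 2 ^ k + r := he.symm
      rw [this]
      push_cast
      ring
    have hk4 : (4 : ℤ) ≤ 2 ^ k := by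
      have := Nat.le_of_dvd (by positivity) h4e
      exact_mod_cast this
    rcases (Nat.dvd_prime hr).mp hm1 with h1 | h1
    · -- degree 2
      rw [hm, h1] at hdX
      rcases h.signX χ hχX with h2 | h2 <;> rw [h2] at hdX
      · have h3 : (p : ℤ) ∣ 1 - ((2 * 1 : ℕ) : ℤ) := hdX.dvd
        have h4 : (p : ℤ) ∣ 1 := by
          have := dvd_neg.mpr h3
          simpa using this
        have := Int.le_of_dvd (by norm_num) h4
        omega
      · have h3 : (p : ℤ) ∣ -1 - ((2 * 1 : ℕ) : ℤ) := hdX.dvd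
        have h4 : (p : ℤ) ∣ 3 := by
          have := dvd_neg.mpr h3
          simpa using this
        have := Int.le_of_dvd (by norm_num) h4
        omega
    · -- degree 2 r
      rw [hm, h1] at hdX
      rcases h.signX χ hχX with h2 | h2 <;> rw [h2] at hdX
      · have h3 : (p : ℤ) ∣ 1 - ((2 * r : ℕ) : ℤ) := hdX.dvd
        have h4 : (p : ℤ) ∣ (2 * (r : ℤ) - 1) - p := by
          have h5 := dvd_neg.mpr h3
          have e2 : (2 * (r : ℤ) - 1) - p = -(1 - ((2 * r : ℕ) : ℤ)) - p := by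
            push_cast; ring
          rw [e2]
          exact dvd_sub h5 dvd_rfl
        have h5 : (2 * (r : ℤ) - 1) - p = 0 := by
          apply Int.eq_zero_of_abs_lt_dvd h4
          rw [abs_lt]
          constructor <;> omega
        -- r = 2 ^ k + 1, p = 2 ^ (k + 1) + 1
        have hr' : r = 2 ^ k + 1 := by
          have : (r : ℤ) = 2 ^ k + 1 := by linarith
          exact_mod_cast this
        have hp'' : p = 2 ^ (k + 1) + 1 := by
          have : (p : ℤ) = 2 ^ (k + 1) + 1 := by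
            rw [pow_succ]; linarith
          exact_mod_cast this
        rw [hr'] at hr
        rw [hp''] at hp
        exact Cfsg.Agent.Lib.Helper78.PRQArith.zb hr hp hk2
      · have h3 : (p : ℤ) ∣ -1 - ((2 * r : ℕ) : ℤ) := hdX.dvd
        have h4 : (p : ℤ) ∣ (2 * (r : ℤ) + 1) - p := by
          have h5 := dvd_neg.mpr h3
          have e2 : (2 * (r : ℤ) + 1) - p = -(-1 - ((2 * r : ℕ) : ℤ)) - p := by
            push_cast; ring
          rw [e2]
          exact dvd_sub h5 dvd_rfl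
        have h5 : (2 * (r : ℤ) + 1) - p = 0 := by
          apply Int.eq_zero_of_abs_lt_dvd h4
          rw [abs_lt]
          constructor <;> omega
        -- e = r + 1 does not divide r - 1
        have h6 : 2 ^ k = r + 1 := by
          have : ((2 : ℤ) ^ k) = (r : ℤ) + 1 := by linarith
          exact_mod_cast this
        rw [h6] at her
        have := Nat.le_of_dvd (by omega) her
        omega


theorem sum_split {ι : Type*} [Fintype ι] [DecidableEq ι] (X Y : Finset ι)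
    (hd : ∀ x ∈ X, x ∉ Y) {M : Type*} [AddCommMonoid M] (f : ι → M) :
    ∑ i, f i = ∑ i ∈ X, f i + ∑ i ∈ Y, f i + ∑ i ∈ Finset.univ \ (X ∪ Y), f i := by
  have hdisj : Disjoint X Y := Finset.disjoint_left.mpr hd
  rw [← Finset.sum_union hdisj, add_comm, Finset.sum_sdiff (Finset.subset_univ _)]

theorem sum_subgroup_of_const {G : Type u} [Group G] (P : Subgroup G) [Fintype P] (f : G → ℂ)
    (c : ℂ) (hc : ∀ u : G, u ∈ P → u ≠ 1 → f u = c) :
    ∑ x : P, f (x : G) = f 1 + ((Nat.card P : ℂ) - 1) * c := by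
  classical
  rw [← Finset.add_sum_erase Finset.univ (fun x : P => f (x : G)) (Finset.mem_univ (1 : P))]
  congr 1
  rw [Finset.sum_congr rfl (fun (x : P) hx => hc (x : G) x.2
      (fun h => Finset.ne_of_mem_erase hx (Subtype.ext h))),
    Finset.sum_const, Finset.card_erase_of_mem (Finset.mem_univ _), Finset.card_univ,
    nsmul_eq_mul, Nat.card_eq_fintype_card, Nat.cast_sub Fintype.card_pos, Nat.cast_one]

/-- The case `ε = 1` (`e = r`): the tensor square of an exceptional character. -/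
theorem c3 {G : Type u} [Group G] [Finite G] (p r : ℕ) (hp : p.Prime) (hr : r.Prime)
    (hr3 : 3 ≤ r) (hrp : r < p) (P : Subgroup G) (hP : Nat.card P = p)
    (hcent : ∀ u : G, u ∈ P → u ≠ 1 → Nat.card (Subgroup.centralizer ({u} : Set G)) = p)
    (X Y : Finset (IrrCharacter G)) (εX : IrrCharacter G → ℤ) (h : Pkg p P r X Y εX 1)
    (τ : IrrCharacter G) (hτ : ∀ g : G, (τ : G → ℂ) g = 1) (hτX : τ ∈ X)
    (hY : ∀ θ ∈ Y, charDegree (θ : G → ℂ) = r)
    (hX1 : ∀ χ ∈ X, χ ≠ τ → charDegree (χ : G → ℂ) ≠ 1)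
    (hrdvd : r ∣ p - 1) :
    p = 2 * r + 1 ∧ ∃ χ ∈ X, εX χ = 1 ∧ charDegree (χ : G → ℂ) = p + 1 := by
  classical
  have : Fintype G := Fintype.ofFinite G
  have : Finite (IrrCharacter G) := finite_irrCharacter G
  have : Fintype (IrrCharacter G) := Fintype.ofFinite _
  have : Fintype P := Fintype.ofFinite P
  have hr2 := hr.two_le
  have hp2 := hp.two_le
  have hr3z : (3 : ℤ) ≤ r := by exact_mod_cast hr3
  have hpz0 : (0 : ℤ) < p := by exact_mod_cast hp.pos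
  set t := Y.card with ht
  have htr : t * r = p - 1 := by rw [ht, h.cardY]; exact Nat.div_mul_cancel hrdvd
  have hdτ : charDegree (τ : G → ℂ) = 1 := charDegree_eq_of_apply_one (by rw [hτ 1]; simp)
  have hετ : εX τ = 1 := by
    rcases h.signX τ hτX with h1 | h1
    · exact h1
    · exfalso
      have h2 := h.degX τ hτX
      rw [hdτ, h1] at h2
      have h3 : (p : ℤ) ∣ -1 - ((1 : ℕ) : ℤ) := h2.dvd
      have h4 : (p : ℤ) ∣ 2 := by
        have := dvd_neg.mpr h3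
        simpa using this
      have := Int.le_of_dvd (by norm_num) h4
      omega
  have hYne : Y.Nonempty := by
    rw [← Finset.card_pos, ← ht]
    rcases Nat.eq_zero_or_pos t with h0 | h0
    · rw [h0] at htr; omega
    · exact h0
  obtain ⟨θ₀, hθ₀⟩ := hYne
  have hrel0 := rel_one hp h θ₀ hθ₀
  rw [hY θ₀ hθ₀, one_mul] at hrel0
  have hdeg1 : ∀ ψ : IrrCharacter G, (ψ : G → ℂ) 1 = (charDegree (ψ : G → ℂ) : ℂ) := fun ψ =>
    (char_natCast_charDegree (isCharacter_of_irr ψ.2)).symm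
  have hr0 : (r : ℂ) ≠ 0 := by exact_mod_cast hr.ne_zero
  -- the sum of the exceptional characters on `P ∖ 1`
  have hYsum : ∀ u : G, u ∈ P → u ≠ 1 → ∑ θ ∈ Y, (θ : G → ℂ) u = -1 := by
    intro u hu hu1
    have h1 := Cfsg.Agent.Lib.CT.Orth.sum_apply_one_mul_of_ne_sum u hu1
    rw [sum_split X Y h.disj] at h1
    have hX' : ∑ χ ∈ X, (χ : G → ℂ) 1 * (χ : G → ℂ) u = (r : ℂ) := by
      have e1 : ∑ χ ∈ X, (χ : G → ℂ) 1 * (χ : G → ℂ) u
          = ((∑ χ ∈ X, εX χ * (charDegree (χ : G → ℂ) : ℤ) : ℤ) : ℂ) := by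
        push_cast
        refine Finset.sum_congr rfl fun χ hχ => ?_
        rw [hdeg1, h.valX χ hχ u hu hu1]
        ring
      rw [e1, ← hrel0]
      simp
    have hY' : ∑ θ ∈ Y, (θ : G → ℂ) 1 * (θ : G → ℂ) u = (r : ℂ) * ∑ θ ∈ Y, (θ : G → ℂ) u := by
      rw [Finset.mul_sum]
      refine Finset.sum_congr rfl fun θ hθ => ?_
      rw [hdeg1, hY θ hθ]
    have hO' : ∑ ψ ∈ Finset.univ \ (X ∪ Y), (ψ : G → ℂ) 1 * (ψ : G → ℂ) u = 0 := by
      refine Finset.sum_eq_zero fun ψ hψ => ?_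
      rw [Finset.mem_sdiff, Finset.mem_union, not_or] at hψ
      rw [h.vanish ψ hψ.2.1 hψ.2.2 u hu hu1, mul_zero]
    rw [hX', hY', hO', add_zero] at h1
    have h2 : (r : ℂ) * (1 + ∑ θ ∈ Y, (θ : G → ℂ) u) = 0 := by
      rw [mul_add, mul_one]
      exact h1
    have h3 := (mul_eq_zero.mp h2).resolve_left hr0
    linear_combination h3
  -- the sum of the squares on `P ∖ 1`
  have hYsq : ∀ u : G, u ∈ P → u ≠ 1 →
      ∑ θ ∈ Y, (θ : G → ℂ) u * (θ : G → ℂ) u⁻¹ = (p : ℂ) - r := by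
    intro u hu hu1
    have h1 := Cfsg.Agent.Lib.CT.Orth.second_orthogonality_sum_of_isConj u u (IsConj.refl u)
    rw [hcent u hu hu1, sum_split X Y h.disj] at h1
    have hX' : ∑ χ ∈ X, (χ : G → ℂ) u * conj ((χ : G → ℂ) u) = (r : ℂ) := by
      have e1 : ∀ χ ∈ X, (χ : G → ℂ) u * conj ((χ : G → ℂ) u) = 1 := by
        intro χ hχ
        rw [h.valX χ hχ u hu hu1]
        rcases h.signX χ hχ with h2 | h2 <;> rw [h2] <;> simp
      rw [Finset.sum_congr rfl e1, Finset.sum_const, h.cardX]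
      simp
    have hY' : ∑ θ ∈ Y, (θ : G → ℂ) u * conj ((θ : G → ℂ) u)
        = ∑ θ ∈ Y, (θ : G → ℂ) u * (θ : G → ℂ) u⁻¹ :=
      Finset.sum_congr rfl fun θ _ => by rw [char_apply_inv (isCharacter_of_irr θ.2)]
    have hO' : ∑ ψ ∈ Finset.univ \ (X ∪ Y), (ψ : G → ℂ) u * conj ((ψ : G → ℂ) u) = 0 := by
      refine Finset.sum_eq_zero fun ψ hψ => ?_
      rw [Finset.mem_sdiff, Finset.mem_union, not_or] at hψ
      rw [h.vanish ψ hψ.2.1 hψ.2.2 u hu hu1, zero_mul]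
    rw [hX', hY', hO', add_zero] at h1
    linear_combination h1
  have htr' : (t : ℂ) * r = (p : ℂ) - 1 := by
    have e1 : ((t * r : ℕ) : ℂ) = ((p - 1 : ℕ) : ℂ) := by rw [htr]
    rwa [Nat.cast_mul, Nat.cast_sub (by omega), Nat.cast_one] at e1
  -- the exceptional characters have no trivial constituent on `P`
  have hSY : ∀ θ ∈ Y, ∑ x : P, (θ : G → ℂ) (x : G) = 0 := by
    choose n hn using fun θ : IrrCharacter G =>
      Cfsg.Agent.Lib.CT.PairCount.char_sum_subgroup (isCharacter_of_irr θ.2) P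
    have h1 : ∑ x : P, (∑ θ ∈ Y, (θ : G → ℂ) (x : G))
        = (∑ θ ∈ Y, (θ : G → ℂ) 1) + ((Nat.card P : ℂ) - 1) * (-1) :=
      sum_subgroup_of_const P (fun g => ∑ θ ∈ Y, (θ : G → ℂ) g) (-1)
        (fun u hu hu1 => hYsum u hu hu1)
    have h2 : ∑ θ ∈ Y, (θ : G → ℂ) 1 = (t : ℂ) * r := by
      rw [Finset.sum_congr rfl (fun θ hθ => by rw [hdeg1, hY θ hθ]), Finset.sum_const,
        nsmul_eq_mul]
    rw [Finset.sum_comm, h2, hP] at h1
    have h3 : ∑ θ ∈ Y, ((p : ℂ) * (n θ : ℂ)) = 0 := by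
      rw [← Finset.sum_congr rfl (fun θ _ => (hn θ).trans (by rw [hP])), h1]
      linear_combination htr'
    have h4 : ∑ θ ∈ Y, n θ = 0 := by
      have h5 : ((p * ∑ θ ∈ Y, n θ : ℕ) : ℂ) = 0 := by
        push_cast
        rw [Finset.mul_sum]
        exact h3
      have h6 : p * ∑ θ ∈ Y, n θ = 0 := by exact_mod_cast h5
      exact (Nat.mul_eq_zero.mp h6).resolve_left hp.ne_zero
    intro θ hθ
    rw [hn θ, (Finset.sum_eq_zero_iff.mp h4) θ hθ]
    simp
  -- the characters `θ * conj θ`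
  have hΘchar : ∀ θ : IrrCharacter G,
      IsCharacter G (fun g => (θ : G → ℂ) g * (θ : G → ℂ) g⁻¹) := fun θ =>
    Cfsg.Agent.Lib.CT.Ops.isCharacter_mul (isCharacter_of_irr θ.2)
      (Cfsg.Agent.Lib.CT.Ops.isCharacter_inv_arg (isCharacter_of_irr θ.2))
  choose N hN using fun θ : IrrCharacter G =>
    Cfsg.Agent.Lib.CT.PairCount.char_sum_subgroup (hΘchar θ) P
  have hNsum : ∑ θ ∈ Y, N θ = t * r := by
    have h1 : ∑ x : P, (∑ θ ∈ Y, (θ : G → ℂ) (x : G) * (θ : G → ℂ) (x : G)⁻¹)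
        = (∑ θ ∈ Y, (θ : G → ℂ) 1 * (θ : G → ℂ) 1⁻¹)
          + ((Nat.card P : ℂ) - 1) * ((p : ℂ) - r) :=
      sum_subgroup_of_const P (fun g => ∑ θ ∈ Y, (θ : G → ℂ) g * (θ : G → ℂ) g⁻¹)
        ((p : ℂ) - r) (fun u hu hu1 => hYsq u hu hu1)
    have h2 : ∑ θ ∈ Y, (θ : G → ℂ) 1 * (θ : G → ℂ) 1⁻¹ = (t : ℂ) * ((r : ℂ) * r) := by
      rw [Finset.sum_congr rfl (fun θ hθ => by rw [inv_one, hdeg1, hY θ hθ]), Finset.sum_const,
        nsmul_eq_mul]
    rw [Finset.sum_comm, h2, hP] at h1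
    have h3 : ∑ θ ∈ Y, ((p : ℂ) * (N θ : ℂ))
        = (t : ℂ) * ((r : ℂ) * r) + ((p : ℂ) - 1) * ((p : ℂ) - r) := by
      rw [← h1]
      exact Finset.sum_congr rfl (fun θ _ => ((hN θ).trans (by rw [hP])).symm)
    have h4 : ((p * ∑ θ ∈ Y, N θ : ℕ) : ℂ) = ((p * (t * r) : ℕ) : ℂ) := by
      push_cast
      rw [Finset.mul_sum, h3]
      linear_combination ((r : ℂ) - (p : ℂ)) * htr'
    have h5 : p * ∑ θ ∈ Y, N θ = p * (t * r) := by exact_mod_cast h4
    exact Nat.eq_of_mul_eq_mul_left hp.pos h5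
  obtain ⟨θ₁, hθ₁, hNθ₁⟩ : ∃ θ ∈ Y, r ≤ N θ := by
    apply Finset.exists_le_of_sum_le ⟨θ₀, hθ₀⟩
    rw [Finset.sum_const, smul_eq_mul, hNsum]
  -- decomposition of `θ₁ * conj θ₁`
  obtain ⟨c, hc, hexp⟩ := Cfsg.Agent.Lib.CT.NormOne.exists_mult_sum (hΘchar θ₁)
  have hexp' : ∀ g : G, (θ₁ : G → ℂ) g * (θ₁ : G → ℂ) g⁻¹
      = ∑ ψ : IrrCharacter G, (c ψ : ℂ) * (ψ : G → ℂ) g := by
    intro g
    have e1 := congrFun hexp g
    rw [Finset.sum_apply] at e1
    simpa using e1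
  have hcτ : c τ = 1 := by
    have h1 := hc τ
    have h2 : classInner (fun g => (θ₁ : G → ℂ) g * (θ₁ : G → ℂ) g⁻¹) (τ : G → ℂ)
        = classInner (θ₁ : G → ℂ) (θ₁ : G → ℂ) := by
      unfold classInner
      congr 1
      refine Finset.sum_congr rfl fun g _ => ?_
      rw [hτ g, map_one, mul_one]
      beta_reduce
      rw [char_apply_inv (isCharacter_of_irr θ₁.2)]
    rw [h2, Cfsg.Agent.Lib.CT.NormOne.inner_self_eq_one_of_irr θ₁.2] at h1
    exact_mod_cast h1.symm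
  have hdegsum : ∑ ψ : IrrCharacter G, c ψ * charDegree (ψ : G → ℂ) = r * r := by
    have h1 := hexp' 1
    rw [inv_one, hdeg1, hY θ₁ hθ₁] at h1
    have h2 : ((r * r : ℕ) : ℂ)
        = ((∑ ψ : IrrCharacter G, c ψ * charDegree (ψ : G → ℂ) : ℕ) : ℂ) := by
      push_cast
      rw [h1]
      exact Finset.sum_congr rfl fun ψ _ => by rw [hdeg1]
    exact_mod_cast h2.symm
  -- the sums over `P`, in integers
  let s : IrrCharacter G → ℤ := fun ψ =>
    if ψ ∈ X then (charDegree (ψ : G → ℂ) : ℤ) + ((p : ℤ) - 1) * εX ψ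
    else if ψ ∈ Y then 0 else (charDegree (ψ : G → ℂ) : ℤ)
  have hs : ∀ ψ : IrrCharacter G, ∑ x : P, (ψ : G → ℂ) (x : G) = ((s ψ : ℤ) : ℂ) := by
    intro ψ
    by_cases hψX : ψ ∈ X
    · rw [sum_subgroup_of_const P (ψ : G → ℂ) (εX ψ : ℂ) (h.valX ψ hψX), hP, hdeg1]
      simp only [s, if_pos hψX]
      push_cast
      ring
    · by_cases hψY : ψ ∈ Y
      · rw [hSY ψ hψY]
        simp only [s, if_neg hψX, if_pos hψY]
        simp
      · rw [sum_subgroup_of_const P (ψ : G → ℂ) 0 (h.vanish ψ hψX hψY), hdeg1]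
        simp only [s, if_neg hψX, if_neg hψY]
        push_cast
        ring
  have hSsum : (p : ℤ) * (N θ₁ : ℤ) = ∑ ψ : IrrCharacter G, (c ψ : ℤ) * s ψ := by
    have h1 := hN θ₁
    rw [hP] at h1
    have h2 : ∑ x : P, (θ₁ : G → ℂ) (x : G) * (θ₁ : G → ℂ) (x : G)⁻¹
        = ∑ ψ : IrrCharacter G, (c ψ : ℂ) * ∑ x : P, (ψ : G → ℂ) (x : G) := by
      rw [Finset.sum_congr rfl (fun (x : P) _ => hexp' (x : G)), Finset.sum_comm]
      exact Finset.sum_congr rfl fun ψ _ => by rw [Finset.mul_sum]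
    rw [h2] at h1
    have h3 : ((∑ ψ : IrrCharacter G, (c ψ : ℤ) * s ψ : ℤ) : ℂ)
        = (((p : ℤ) * (N θ₁ : ℤ) : ℤ) : ℂ) := by
      push_cast
      rw [← h1]
      exact Finset.sum_congr rfl fun ψ _ => by rw [hs]
    exact_mod_cast h3.symm
  -- the defect of each constituent
  have hd : ∀ ψ : IrrCharacter G, ψ ≠ τ →
      0 ≤ 2 * (p : ℤ) * (charDegree (ψ : G → ℂ) : ℤ) - ((p : ℤ) + 1) * s ψ ∧
      (2 * (p : ℤ) * (charDegree (ψ : G → ℂ) : ℤ) - ((p : ℤ) + 1) * s ψ = 0 →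
        ψ ∈ X ∧ εX ψ = 1 ∧ charDegree (ψ : G → ℂ) = p + 1) := by
    intro ψ hψ
    have hdpos : (0 : ℤ) < (charDegree (ψ : G → ℂ) : ℤ) := by
      exact_mod_cast irr_charDegree_pos ψ.2
    by_cases hψX : ψ ∈ X
    · simp only [s, if_pos hψX]
      rcases h.signX ψ hψX with h1 | h1
      · have h2 := h.degX ψ hψX
        rw [h1] at h2
        have h3 : (p : ℤ) ∣ (charDegree (ψ : G → ℂ) : ℤ) - 1 := h2.symm.dvd
        have h4 := hX1 ψ hψX hψ
        have h5 : (p : ℤ) ≤ (charDegree (ψ : G → ℂ) : ℤ) - 1 := Int.le_of_dvd (by omega) h3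
        rw [h1]
        have e1 : 2 * (p : ℤ) * (charDegree (ψ : G → ℂ) : ℤ)
            - ((p : ℤ) + 1) * ((charDegree (ψ : G → ℂ) : ℤ) + ((p : ℤ) - 1) * 1)
            = ((p : ℤ) - 1) * ((charDegree (ψ : G → ℂ) : ℤ) - 1 - p) := by ring
        rw [e1]
        refine ⟨mul_nonneg (by omega) (by omega), fun h6 => ⟨hψX, rfl, ?_⟩⟩
        rcases mul_eq_zero.mp h6 with h7 | h7
        · omega
        · omega
      · rw [h1]
        have e1 : 2 * (p : ℤ) * (charDegree (ψ : G → ℂ) : ℤ)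
            - ((p : ℤ) + 1) * ((charDegree (ψ : G → ℂ) : ℤ) + ((p : ℤ) - 1) * (-1))
            = ((p : ℤ) - 1) * ((charDegree (ψ : G → ℂ) : ℤ) + 1 + p) := by ring
        rw [e1]
        have h8 : 0 < ((p : ℤ) - 1) * ((charDegree (ψ : G → ℂ) : ℤ) + 1 + p) :=
          mul_pos (by omega) (by omega)
        exact ⟨h8.le, fun h6 => absurd h6 h8.ne'⟩
    · by_cases hψY : ψ ∈ Y
      · simp only [s, if_neg hψX, if_pos hψY]
        have h8 : 0 < 2 * (p : ℤ) * (charDegree (ψ : G → ℂ) : ℤ) - ((p : ℤ) + 1) * 0 := by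
          rw [mul_zero, sub_zero]
          positivity
        exact ⟨h8.le, fun h6 => absurd h6 h8.ne'⟩
      · simp only [s, if_neg hψX, if_neg hψY]
        have e1 : 2 * (p : ℤ) * (charDegree (ψ : G → ℂ) : ℤ)
            - ((p : ℤ) + 1) * (charDegree (ψ : G → ℂ) : ℤ)
            = ((p : ℤ) - 1) * (charDegree (ψ : G → ℂ) : ℤ) := by ring
        rw [e1]
        have h8 : 0 < ((p : ℤ) - 1) * (charDegree (ψ : G → ℂ) : ℤ) := mul_pos (by omega) hdpos
        exact ⟨h8.le, fun h6 => absurd h6 h8.ne'⟩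
  set dd : IrrCharacter G → ℤ := fun ψ =>
    2 * (p : ℤ) * (charDegree (ψ : G → ℂ) : ℤ) - ((p : ℤ) + 1) * s ψ with hdd
  have hsτ : s τ = p := by
    simp only [s, if_pos hτX]
    rw [hdτ, hετ]
    push_cast
    ring
  have htot : ∑ ψ : IrrCharacter G, (c ψ : ℤ) * dd ψ
      = 2 * (p : ℤ) * ((r : ℤ) * r) - ((p : ℤ) + 1) * ((p : ℤ) * (N θ₁ : ℤ)) := by
    have e1 : (2 * (p : ℤ) * ((r : ℤ) * r))
        = ∑ ψ : IrrCharacter G, 2 * (p : ℤ) * ((c ψ : ℤ) * (charDegree (ψ : G → ℂ) : ℤ)) := by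
      rw [← Finset.mul_sum]
      congr 1
      exact_mod_cast hdegsum.symm
    rw [hSsum, Finset.mul_sum, e1, ← Finset.sum_sub_distrib]
    exact Finset.sum_congr rfl fun ψ _ => by simp only [hdd]; ring
  have hsplit := (Finset.add_sum_erase Finset.univ (fun ψ : IrrCharacter G => (c ψ : ℤ) * dd ψ)
    (Finset.mem_univ τ)).symm
  have hddτ : dd τ = 2 * (p : ℤ) - ((p : ℤ) + 1) * p := by
    simp only [hdd]
    rw [hsτ, hdτ]
    push_cast
    ring
  have hDnn : 0 ≤ ∑ ψ ∈ Finset.univ.erase τ, (c ψ : ℤ) * dd ψ :=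
    Finset.sum_nonneg fun ψ hψ =>
      mul_nonneg (by positivity) (hd ψ (Finset.ne_of_mem_erase hψ)).1
  have hD : ∑ ψ ∈ Finset.univ.erase τ, (c ψ : ℤ) * dd ψ
      = 2 * (p : ℤ) * ((r : ℤ) * r - 1) - ((p : ℤ) + 1) * p * ((N θ₁ : ℤ) - 1) := by
    rw [htot, hcτ, hddτ] at hsplit
    push_cast at hsplit
    linarith
  have hNr : (r : ℤ) ≤ (N θ₁ : ℤ) := by exact_mod_cast hNθ₁
  have hmono : ((p : ℤ) + 1) * p * ((r : ℤ) - 1) ≤ ((p : ℤ) + 1) * p * ((N θ₁ : ℤ) - 1) :=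
    mul_le_mul_of_nonneg_left (by linarith) (by positivity)
  have hp_le : p ≤ 2 * r + 1 := by
    by_contra hcon
    push Not at hcon
    have h1 : 2 * (r : ℤ) + 2 ≤ p := by exact_mod_cast hcon
    have h3 : 0 ≤ (p : ℤ) * ((r : ℤ) - 1) * (2 * r + 1 - p) := by
      have e1 : (p : ℤ) * ((r : ℤ) - 1) * (2 * r + 1 - p)
          = 2 * (p : ℤ) * ((r : ℤ) * r - 1) - ((p : ℤ) + 1) * p * ((r : ℤ) - 1) := by ring
      rw [e1]
      linarith
    have h4 : (p : ℤ) * ((r : ℤ) - 1) * (2 * r + 1 - p) < 0 :=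
      mul_neg_of_pos_of_neg (mul_pos hpz0 (by linarith)) (by linarith)
    linarith
  have hp_ge : 2 * r + 1 ≤ p := by
    have ht0 : t ≠ 0 := by
      intro h0
      rw [h0] at htr
      omega
    have ht1 : t ≠ 1 := by
      intro h1
      rw [h1, one_mul] at htr
      have hrodd : r % 2 = 1 := by
        rcases hr.eq_two_or_odd with h2 | h2 <;> omega
      have hpodd : p % 2 = 1 := by
        rcases hp.eq_two_or_odd with h2 | h2 <;> omega
      omega
    have h2 : 2 * r ≤ t * r := Nat.mul_le_mul_right r (by omega)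
    omega
  have hpeq : p = 2 * r + 1 := le_antisymm hp_le hp_ge
  refine ⟨hpeq, ?_⟩
  have hD0 : ∑ ψ ∈ Finset.univ.erase τ, (c ψ : ℤ) * dd ψ = 0 := by
    apply le_antisymm _ hDnn
    rw [hD]
    have hpz : (p : ℤ) = 2 * r + 1 := by exact_mod_cast hpeq
    have h3 : 2 * (p : ℤ) * ((r : ℤ) * r - 1) - ((p : ℤ) + 1) * p * ((r : ℤ) - 1) = 0 := by
      rw [hpz]
      ring
    linarith
  have hall := (Finset.sum_eq_zero_iff_of_nonneg (fun ψ hψ =>
    mul_nonneg (by positivity) (hd ψ (Finset.ne_of_mem_erase hψ)).1)).mp hD0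
  have hex : ∃ ψ ∈ Finset.univ.erase τ, 0 < c ψ := by
    by_contra hno
    push Not at hno
    have h1 : ∑ ψ ∈ Finset.univ.erase τ, c ψ * charDegree (ψ : G → ℂ) = 0 :=
      Finset.sum_eq_zero fun ψ hψ => by rw [Nat.le_zero.mp (hno ψ hψ), zero_mul]
    have h2 := Finset.add_sum_erase Finset.univ
      (fun ψ : IrrCharacter G => c ψ * charDegree (ψ : G → ℂ)) (Finset.mem_univ τ)
    rw [h1, hdegsum, hcτ, hdτ] at h2
    nlinarith
  obtain ⟨ψ₀, hψ₀, hcψ₀⟩ := hex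
  have h0 := hall ψ₀ hψ₀
  have h1 : dd ψ₀ = 0 := by
    rcases mul_eq_zero.mp h0 with h2 | h2
    · exfalso
      have h3 : c ψ₀ = 0 := by exact_mod_cast h2
      omega
    · exact h2
  obtain ⟨hX', hε', hdeg'⟩ := (hd ψ₀ (Finset.ne_of_mem_erase hψ₀)).2 h1
  exact ⟨ψ₀, hX', hε', hdeg'⟩

/-- Reduction to the two numerical cases. -/
theorem red {G : Type u} [Group G] [Finite G] [IsSimpleGroup G] (hG : ¬ IsCyclic G)
    (p q r b : ℕ) (hp : p.Prime) (hq : q.Prime) (hr : r.Prime) (hpq : p ≠ q) (hpr : p ≠ r)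
    (hqr : q ≠ r) (hG' : Nat.card G = p * r * q ^ b) (hrp : r < p) :
    (p = 5 ∧ r = 3 ∧ q = 2) ∨ (p = 7 ∧ r = 3 ∧ q = 2) := by
  classical
  have : Fact p.Prime := ⟨hp⟩
  have : Fact r.Prime := ⟨hr⟩
  let P : Sylow p G := default
  let R : Sylow r G := default
  obtain ⟨hPc, hPC, e, he, he1, hep, heq⟩ :=
    Cfsg.Agent.Lib.Helper1.PRQSylow.sylow_data hG p q r b hp hq hr hpq hpr hqr hG' P
  obtain ⟨-, -, er, -, her1, herp, herq⟩ :=
    Cfsg.Agent.Lib.Helper1.PRQSylow.sylow_data hG r q p b hr hq hp (Ne.symm hqr) (Ne.symm hpr)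
      (Ne.symm hpq) (by rw [hG', mul_comm r p]) R
  have hr2 := hr.two_le
  have her_le : er ≤ r - 1 := Nat.le_of_dvd (by omega) herp
  have hr3 : 3 ≤ r := by omega
  -- q ∣ r - 1
  have hqr1 : q ∣ r - 1 := by
    have hcop : Nat.Coprime er p := by
      refine ((Nat.Prime.coprime_iff_not_dvd hp).mpr fun hd => ?_).symm
      have := Nat.le_of_dvd (by omega) hd
      omega
    have h1 : er ∣ q ^ b := (Nat.Coprime.dvd_mul_left hcop).mp herq
    obtain ⟨k, -, hk⟩ := (Nat.dvd_prime_pow hq).mp h1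
    have hk0 : k ≠ 0 := by
      rintro rfl
      rw [pow_zero] at hk
      omega
    have h2 : q ∣ er := by
      rw [hk]
      exact dvd_pow_self q hk0
    exact h2.trans herp
  obtain ⟨X, Y, εX, ε, h⟩ :=
    Cfsg.Agent.Lib.Helper82.PRQPkg.exists_pkg p (by omega) P hPc hPC e he
  obtain ⟨htriv, hYdeg, hXq, hcase⟩ :=
    c1 hG p q r b hp hq hr hpq hpr hqr hG' hrp hr3 (P : Subgroup G) e he1 hep X Y εX ε h
  have hτ : ∀ g : G, ((Cfsg.Agent.Lib.Helper17.ExcMain.trivIrr G : IrrCharacter G) : G → ℂ) g = 1 :=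
    fun g => Cfsg.Agent.Lib.Helper17.ExcMain.trivIrr_apply G g
  set τ := Cfsg.Agent.Lib.Helper17.ExcMain.trivIrr G with hτdef
  have hτX := htriv τ hτ
  have hdτ : charDegree (τ : G → ℂ) = 1 := charDegree_eq_of_apply_one (by rw [hτ 1]; simp)
  have hXq' : ∀ χ ∈ X, χ ≠ τ →
      q ∣ charDegree (χ : G → ℂ) ∧ charDegree (χ : G → ℂ) ∣ r * q ^ b :=
    fun χ hχ hne => hXq χ hχ (fun hall => hne (eq_of_triv χ τ hall hτ))
  rcases hcase with ⟨hε, hee⟩ | ⟨hε, hee⟩
  · right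
    have h' : Pkg p (P : Subgroup G) r X Y εX 1 := by
      rw [← hee, ← hε]
      exact h
    have hcent : ∀ u : G, u ∈ (P : Subgroup G) → u ≠ 1 →
        Nat.card (Subgroup.centralizer ({u} : Set G)) = p := by
      intro u hu hu1
      rw [← Cfsg.Agent.Lib.Helper80.DefOneLoc.centralizer_eq P hPc hu hu1, hPC]
      exact hPc
    have hrdvd : r ∣ p - 1 := by
      rw [← hee]
      exact hep
    obtain ⟨hpeq, χ, hχX, hχε, hχd⟩ := c3 p r hp hr hr3 hrp (P : Subgroup G) hPc hcent X Y εX h'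
      τ hτ hτX hYdeg
      (fun χ hχ hne hd1 => hne (eq_of_triv χ τ (triv_of_charDegree_one hG χ hd1) hτ)) hrdvd
    have hχne : χ ≠ τ := by
      rintro rfl
      rw [hdτ] at hχd
      omega
    obtain ⟨-, hd2⟩ := hXq' χ hχX hχne
    rw [hχd, hpeq] at hd2
    have h2 : 2 ∣ r * q ^ b := Dvd.dvd.trans ⟨r + 1, by ring⟩ hd2
    have hrodd : ¬ 2 ∣ r := fun h3 => by
      have := (Nat.prime_dvd_prime_iff_eq Nat.prime_two hr).mp h3
      omega
    have h3 : 2 ∣ q ^ b := ((Nat.Prime.dvd_mul Nat.prime_two).mp h2).resolve_left hrodd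
    have h4 : 2 ∣ q := Nat.Prime.dvd_of_dvd_pow Nat.prime_two h3
    have hq2 : q = 2 := ((Nat.prime_dvd_prime_iff_eq Nat.prime_two hq).mp h4).symm
    subst hq2
    have h5 : r + 1 ∣ r * 2 ^ b := Dvd.dvd.trans ⟨2, by ring⟩ hd2
    have h6 : r + 1 ∣ 2 ^ b :=
      (Nat.Coprime.dvd_mul_left (by simp : Nat.Coprime (r + 1) r)).mp h5
    obtain ⟨m, -, hm⟩ := (Nat.dvd_prime_pow Nat.prime_two).mp h6
    have hp' : (2 * r + 1).Prime := hpeq ▸ hp
    have hr3' := Cfsg.Agent.Lib.Helper78.PRQArith.zc hr hp' hm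
    exact ⟨by omega, hr3', rfl⟩
  · left
    have h' : Pkg p (P : Subgroup G) e X Y εX (-1) := by
      rw [← hε]
      exact h
    exact c2 p q r b e hp hq hr hrp hr3 (P : Subgroup G) X Y εX h' τ hτ hτX hYdeg hXq' hee he1
      hep heq hqr1

end Cfsg.Agent.Lib.Helper78.PRQRed
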