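import Mathlib
import Cfsg.Agent.Lib.Helper25.ACStmt

set_option autoImplicit false

/-! S3912 piece [SPLITB] (second seat): `N` of order `r` contains all commutators and all elements
of order `r`, `r * r ∣ #X`: every element of order prime to `r` is central (in particular it
centralizes a Sylow `r`-subgroup). -/

namespace Cfsg.Agent.Lib.Helper78.ACSPLITB

open Cfsg.Agent.Lib.Helper25.ACStmt

universe u

theorem main : SplitB.{u} := by
  intro X _ _ r hr N hNcard hNr hcomm hrr P h hcop x _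
  have hrp : r.Prime := hr.out
  -- elements of `N` have `r`-th power 1
  have hNpow : ∀ n ∈ N, n ^ r = 1 := by
    intro n hn
    have h1 : (⟨n, hn⟩ : ↥N) ^ Nat.card ↥N = 1 := pow_card_eq_one'
    rw [hNcard] at h1
    have h2 := congrArg Subtype.val h1
    simpa using h2
  -- an element of `P` with `y ^ r ≠ 1`
  have hy : ∃ y ∈ (P : Subgroup X), y ^ r ≠ 1 := by
    by_contra hcon
    push Not at hcon
    have hPN : (P : Subgroup X) ≤ N := by
      intro y hyP
      by_cases hy1 : y = 1
      · rw [hy1]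
        exact N.one_mem
      · apply hNr
        have hd : orderOf y ∣ r := orderOf_dvd_of_pow_eq_one (hcon y hyP)
        rcases (Nat.dvd_prime hrp).mp hd with h1 | h1
        · exact absurd (orderOf_eq_one_iff.mp h1) hy1
        · exact h1
    have h1 : Nat.card ↥(P : Subgroup X) ≤ r := by
      have h0 := Subgroup.card_le_of_le hPN
      rw [hNcard] at h0
      exact h0
    have h2 : r ^ 2 ∣ Nat.card ↥(P : Subgroup X) :=
      P.pow_dvd_card_of_pow_dvd_card (by rw [pow_two]; exact hrr)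
    have h3 : r ^ 2 ≤ Nat.card ↥(P : Subgroup X) := Nat.le_of_dvd Nat.card_pos h2
    have h4 : 2 ≤ r := hrp.two_le
    nlinarith
  obtain ⟨y, hyP, hyr⟩ := hy
  obtain ⟨k, hk⟩ := P.isPGroup' ⟨y, hyP⟩
  have hk' : y ^ r ^ k = 1 := by
    have h1 := congrArg Subtype.val hk
    simpa using h1
  obtain ⟨j, _, hj⟩ := (Nat.dvd_prime_pow hrp).mp (orderOf_dvd_of_pow_eq_one hk')
  have hj2 : 2 ≤ j := by
    by_contra hlt
    push Not at hlt
    apply hyr
    have hd : orderOf y ∣ r := by
      rw [hj]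
      interval_cases j
      · simp
      · simp
    exact orderOf_dvd_iff_pow_eq_one.mp hd
  obtain ⟨e, he⟩ : ∃ e, e = r ^ (j - 1) := ⟨_, rfl⟩
  have hre : r ∣ e := by
    rw [he]
    exact dvd_pow_self r (by omega)
  have hzr : (y ^ e) ^ r = 1 := by
    have h1 : e * r = orderOf y := by
      rw [he, hj, ← pow_succ]
      congr 1
      omega
    rw [← pow_mul, h1]
    exact pow_orderOf_eq_one y
  have hz1 : y ^ e ≠ 1 := by
    intro h1
    have hd : orderOf y ∣ e := orderOf_dvd_of_pow_eq_one h1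
    rw [hj, he] at hd
    have h2 := (Nat.pow_dvd_pow_iff_le_right hrp.one_lt).mp hd
    omega
  have hzord : orderOf (y ^ e) = r := by
    have hd : orderOf (y ^ e) ∣ r := orderOf_dvd_of_pow_eq_one hzr
    rcases (Nat.dvd_prime hrp).mp hd with h1 | h1
    · exact absurd (orderOf_eq_one_iff.mp h1) hz1
    · exact h1
  have hzN : y ^ e ∈ N := hNr _ hzord
  have hNz : Subgroup.zpowers (y ^ e) = N := by
    apply Subgroup.eq_of_le_of_card_ge
    · rw [Subgroup.zpowers_le]
      exact hzN
    · rw [Nat.card_zpowers, hzord, hNcard]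
  -- the commutator of `h` and `y` commutes with `y`
  have hmN : h * y * h⁻¹ * y⁻¹ ∈ N := hcomm h y
  have hmy : Commute (h * y * h⁻¹ * y⁻¹) y := by
    have hmN' := hmN
    rw [← hNz] at hmN'
    obtain ⟨i, hi⟩ := Subgroup.mem_zpowers_iff.mp hmN'
    rw [← hi]
    exact ((Commute.refl y).pow_left e).zpow_left i
  -- `h` centralizes `y ^ e`
  have hhz : h * y ^ e * h⁻¹ = y ^ e := by
    have h1 : h * y * h⁻¹ = (h * y * h⁻¹ * y⁻¹) * y := by group
    calc h * y ^ e * h⁻¹ = (h * y * h⁻¹) ^ e := conj_pow.symm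
      _ = ((h * y * h⁻¹ * y⁻¹) * y) ^ e := by rw [← h1]
      _ = (h * y * h⁻¹ * y⁻¹) ^ e * y ^ e := hmy.mul_pow e
      _ = y ^ e := by
        obtain ⟨c, hc⟩ := hre
        rw [hc, pow_mul, hNpow _ hmN, one_pow, one_mul]
  have hcz : Commute h (y ^ e) := by
    have h1 : h * y ^ e = y ^ e * h := by
      calc h * y ^ e = (h * y ^ e * h⁻¹) * h := by group
        _ = y ^ e * h := by rw [hhz]
    exact h1
  -- `h` centralizes `N`
  have hhN : ∀ n ∈ N, Commute h n := by
    intro n hn
    rw [← hNz] at hn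
    obtain ⟨i, hi⟩ := Subgroup.mem_zpowers_iff.mp hn
    rw [← hi]
    exact hcz.zpow_right i
  -- the commutator of `h` and `x`
  obtain ⟨m, hm⟩ : ∃ m, m = h * x * h⁻¹ * x⁻¹ := ⟨_, rfl⟩
  have hmx : h * x * h⁻¹ = m * x := by
    rw [hm]
    group
  have hmN2 : m ∈ N := by
    rw [hm]
    exact hcomm h x
  have hmh : Commute h m := hhN m hmN2
  have hpow : ∀ n : ℕ, h ^ n * x * (h ^ n)⁻¹ = m ^ n * x := by
    intro n
    induction n with
    | zero => simp
    | succ n ih =>
      have e1 : h ^ (n + 1) * x * (h ^ (n + 1))⁻¹ = h * (h ^ n * x * (h ^ n)⁻¹) * h⁻¹ := by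
        rw [pow_succ', mul_inv_rev]
        simp only [mul_assoc]
      rw [e1, ih]
      have e2 : h * (m ^ n * x) * h⁻¹ = (h * m ^ n * h⁻¹) * (h * x * h⁻¹) := by
        simp only [mul_assoc, inv_mul_cancel_left]
      have e3 : h * m ^ n * h⁻¹ = m ^ n := by
        have hc : Commute h (m ^ n) := hmh.pow_right n
        rw [hc.eq, mul_inv_cancel_right]
      rw [e2, e3, hmx, pow_succ, mul_assoc]
  have h5 := hpow (orderOf h)
  rw [pow_orderOf_eq_one, one_mul, inv_one, mul_one] at h5
  have h6 : m ^ orderOf h = 1 := by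
    have h7 : m ^ orderOf h * x = 1 * x := by
      rw [one_mul]
      exact h5.symm
    exact mul_right_cancel h7
  have h8 : m = 1 := by
    have hd1 : orderOf m ∣ orderOf h := orderOf_dvd_of_pow_eq_one h6
    have hd2 : orderOf m ∣ r := orderOf_dvd_of_pow_eq_one (hNpow m hmN2)
    exact orderOf_eq_one_iff.mp (Nat.eq_one_of_dvd_coprimes hcop hd1 hd2)
  rw [h8, one_mul] at hmx
  exact mul_inv_eq_iff_eq_mul.mp hmx

end Cfsg.Agent.Lib.Helper78.ACSPLITB
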