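import Mathlib
import Cfsg.Agent.Lib.Helper10.C2MStmt
import Cfsg.Agent.Lib.Helper44.NegPairs

/-! S5990 / C2FIX sub-call (helper10), piece PLANE0M: singular `e`, `f` with `β(e, f) ≠ 0` span a
nondegenerate plus-type plane (minus form; the proof is form-free, see `gen`). -/

set_option autoImplicit false

universe u

namespace Cfsg.Agent.Lib.Helper78.C2MPLANE0M

open Cfsg.Agent.Lib.Helper45.OMiStmt (M Aniso NDegM StabM)
open Cfsg.Agent.Lib.Helper41.TMTwoStmt (PlusM TSubM)
open QuadraticMap

/-- form-free core for an abstract quadratic form. -/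
theorem gen {F : Type u} [Field F] {V : Type*} [AddCommGroup V] [Module F V]
    (Q : QuadraticForm F V) (e f : V) (he : Q e = 0) (hf : Q f = 0)
    (hef : polar Q e f ≠ 0) :
    (∀ w ∈ Submodule.span F {e, f}, w ≠ 0 →
      (∃ y ∈ Submodule.span F {e, f}, polar Q y w ≠ 0) ∧
      (∃ y ∈ Submodule.span F {e, f}, polar Q w y ≠ 0)) ∧
    (∃ U : Submodule F V, U ≤ Submodule.span F {e, f} ∧ (∀ w ∈ U, Q w = 0) ∧
      2 * Module.finrank F ↥U = Module.finrank F ↥(Submodule.span F {e, f})) ∧
    Module.finrank F ↥(Submodule.span F {e, f}) = 2 := by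
  have hee : polar Q e e = 0 := by
    rw [QuadraticMap.polar_self, he, smul_zero]
  have hff : polar Q f f = 0 := by
    rw [QuadraticMap.polar_self, hf, smul_zero]
  have hfe : polar Q f e ≠ 0 := by rwa [QuadraticMap.polar_comm]
  have hwf : ∀ a b : F, polar Q (a • e + b • f) f = a * polar Q e f := by
    intro a b
    rw [QuadraticMap.polar_add_left, QuadraticMap.polar_smul_left,
      QuadraticMap.polar_smul_left, hff, smul_zero, add_zero, smul_eq_mul]
  have hwe : ∀ a b : F, polar Q (a • e + b • f) e = b * polar Q f e := by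
    intro a b
    rw [QuadraticMap.polar_add_left, QuadraticMap.polar_smul_left,
      QuadraticMap.polar_smul_left, hee, smul_zero, zero_add, smul_eq_mul]
  have heS : e ∈ Submodule.span F ({e, f} : Set V) :=
    Submodule.subset_span (Set.mem_insert _ _)
  have hfS : f ∈ Submodule.span F ({e, f} : Set V) :=
    Submodule.subset_span (Set.mem_insert_of_mem _ rfl)
  have he0 : e ≠ 0 := by
    rintro rfl
    exact hef (QuadraticMap.polar_zero_left _ _)
  have hli : LinearIndependent F ![e, f] := by
    rw [LinearIndependent.pair_iff]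
    intro s t hst
    have h1 := hwf s t
    have h2 := hwe s t
    rw [hst, QuadraticMap.polar_zero_left] at h1 h2
    refine ⟨?_, ?_⟩
    · rcases mul_eq_zero.mp h1.symm with h | h
      · exact h
      · exact absurd h hef
    · rcases mul_eq_zero.mp h2.symm with h | h
      · exact h
      · exact absurd h hfe
  have hfr : Module.finrank F ↥(Submodule.span F ({e, f} : Set V)) = 2 := by
    have h := finrank_span_eq_card hli
    rw [Matrix.range_cons_cons_empty] at h
    rw [h]
    simp
  refine ⟨?_, ?_, hfr⟩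
  · intro w hw hw0
    obtain ⟨a, b, rfl⟩ := Submodule.mem_span_pair.mp hw
    by_cases ha : a = 0
    · have hb : b ≠ 0 := by
        rintro rfl
        apply hw0
        rw [ha, zero_smul, zero_smul, add_zero]
      have h1 : polar Q (a • e + b • f) e ≠ 0 := by
        rw [hwe]
        exact mul_ne_zero hb hfe
      exact ⟨⟨e, heS, by rwa [QuadraticMap.polar_comm]⟩, ⟨e, heS, h1⟩⟩
    · have h1 : polar Q (a • e + b • f) f ≠ 0 := by
        rw [hwf]
        exact mul_ne_zero ha hef
      exact ⟨⟨f, hfS, by rwa [QuadraticMap.polar_comm]⟩, ⟨f, hfS, h1⟩⟩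
  · refine ⟨Submodule.span F {e}, ?_, ?_, ?_⟩
    · rw [Submodule.span_le, Set.singleton_subset_iff]
      exact heS
    · intro w hw
      obtain ⟨c, rfl⟩ := Submodule.mem_span_singleton.mp hw
      rw [QuadraticMap.map_smul, he, smul_zero]
    · rw [finrank_span_singleton he0, hfr]

theorem main : Cfsg.Agent.Lib.Helper10.C2MStmt.Plane0M.{u} := by
  intro F _ _ a₀ b₀ _ d e f he hf hef
  exact gen (Cfsg.Agent.Lib.Helper44.NegPairs.minusQ (d - 1) F a₀ b₀) e f he hf hef

end Cfsg.Agent.Lib.Helper78.C2MPLANE0M
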