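import Mathlib
import Cfsg.Agent.Lib.Helper10.C2MStmt

/-! S5990 / C2FIX sub-call (helper10), piece PLUSSUMM: the orthogonal sum of two plus-type
subspaces is of plus type (minus form; the proof is form-free, see `gen`). -/

set_option autoImplicit false

universe u

namespace Cfsg.Agent.Lib.Helper78.C2MPLUSSUMM

open Cfsg.Agent.Lib.Helper45.OMiStmt (M Aniso NDegM StabM)
open Cfsg.Agent.Lib.Helper41.TMTwoStmt (PlusM TSubM)

/-- form-free core: `Q` any function, `polar Q u v = Q (u + v) - Q u - Q v`. -/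
theorem gen {F : Type u} [Field F] {V : Type*} [AddCommGroup V] [Module F V]
    [FiniteDimensional F V] (Q : V → F) (A B : Submodule F V)
    (horth : ∀ u ∈ A, ∀ v ∈ B, QuadraticMap.polar Q u v = 0) (hinf : A ⊓ B = ⊥)
    (hA : ∃ U : Submodule F V, U ≤ A ∧ (∀ w ∈ U, Q w = 0) ∧
      2 * Module.finrank F ↥U = Module.finrank F ↥A)
    (hB : ∃ U : Submodule F V, U ≤ B ∧ (∀ w ∈ U, Q w = 0) ∧
      2 * Module.finrank F ↥U = Module.finrank F ↥B) :
    ∃ U : Submodule F V, U ≤ A ⊔ B ∧ (∀ w ∈ U, Q w = 0) ∧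
      2 * Module.finrank F ↥U = Module.finrank F ↥(A ⊔ B) := by
  obtain ⟨UA, hUA, hTA, hdA⟩ := hA
  obtain ⟨UB, hUB, hTB, hdB⟩ := hB
  refine ⟨UA ⊔ UB, sup_le_sup hUA hUB, ?_, ?_⟩
  · intro w hw
    obtain ⟨u, hu, v, hv, rfl⟩ := Submodule.mem_sup.mp hw
    have h1 := horth u (hUA hu) v (hUB hv)
    unfold QuadraticMap.polar at h1
    have h2 := hTA u hu
    have h3 := hTB v hv
    rw [h2, h3] at h1
    simpa using h1
  · have hinfU : UA ⊓ UB = ⊥ := by
      rw [eq_bot_iff, ← hinf]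
      exact inf_le_inf hUA hUB
    have e1 := Submodule.finrank_sup_add_finrank_inf_eq UA UB
    have e2 := Submodule.finrank_sup_add_finrank_inf_eq A B
    rw [hinfU, finrank_bot] at e1
    rw [hinf, finrank_bot] at e2
    omega

theorem main : Cfsg.Agent.Lib.Helper10.C2MStmt.PlusSumM.{u} := by
  intro F _ _ a₀ b₀ _ d A B horth hinf hA hB
  exact gen (Cfsg.quadFormMinus (d - 1) F a₀ b₀) A B horth hinf hA hB

end Cfsg.Agent.Lib.Helper78.C2MPLUSSUMM
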