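import Mathlib
import Cfsg.Agent.Lib.Helper31.ECStmt
import Cfsg.Agent.Lib.Helper22.Layer
import Cfsg.Agent.Lib.Helper21.Quasi

/-!
Piece S2860/QS5: `X` perfect, `R ≤ D` normal, `D / R` central in `X / R`, `X / D` quasisimple:
then `X / R` is quasisimple.
-/

set_option autoImplicit false
universe u

namespace Cfsg.Agent.Lib.Helper78.ECQS5

open Subgroup

/-- In a perfect group, a subgroup containing all commutators is everything. -/
theorem eq_top_of_commutator_mem {X : Type u} [Group X] (hP : Group.IsPerfect X) (N : Subgroup X)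
    (h : ∀ x y : X, x * y * x⁻¹ * y⁻¹ ∈ N) : N = ⊤ := by
  rw [eq_top_iff, ← hP.commutator_eq_top, commutator_def, Subgroup.commutator_le]
  intro x _ y _
  rw [commutatorElement_def]
  exact h x y

/-- In a perfect group `X`, if `n` commutes with everything modulo a normal subgroup `D` which is
central modulo a normal subgroup `R ≤ D`, then `n` commutes with everything modulo `R`. -/
theorem comm_mem_of_central {X : Type u} [Group X] (hP : Group.IsPerfect X) (R D : Subgroup X)
    [R.Normal] [D.Normal] (hcent : ∀ x : X, ∀ d ∈ D, x * d * x⁻¹ * d⁻¹ ∈ R)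
    (n : X) (hn : ∀ x : X, n * x * n⁻¹ * x⁻¹ ∈ D) (x : X) : n * x * n⁻¹ * x⁻¹ ∈ R := by
  -- the map `x ↦ [n, x] R` is a homomorphism with commutative range
  have hmul : ∀ x y : X, (QuotientGroup.mk (n * (x * y) * n⁻¹ * (x * y)⁻¹) : X ⧸ R) =
      QuotientGroup.mk (n * x * n⁻¹ * x⁻¹) * QuotientGroup.mk (n * y * n⁻¹ * y⁻¹) := by
    intro x y
    have h1 : n * (x * y) * n⁻¹ * (x * y)⁻¹ =
        (n * x * n⁻¹ * x⁻¹) * (x * (n * y * n⁻¹ * y⁻¹) * x⁻¹ * (n * y * n⁻¹ * y⁻¹)⁻¹) *
          (n * y * n⁻¹ * y⁻¹) := by group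
    rw [h1, QuotientGroup.mk_mul, QuotientGroup.mk_mul]
    have h2 : (QuotientGroup.mk (x * (n * y * n⁻¹ * y⁻¹) * x⁻¹ * (n * y * n⁻¹ * y⁻¹)⁻¹) : X ⧸ R)
        = 1 := (QuotientGroup.eq_one_iff _).mpr (hcent x _ (hn y))
    rw [h2, mul_one]
  let φ : X →* X ⧸ R := MonoidHom.mk' (fun x => QuotientGroup.mk (n * x * n⁻¹ * x⁻¹)) hmul
  have hφ : ∀ x, φ x = QuotientGroup.mk (n * x * n⁻¹ * x⁻¹) := fun x => rfl
  -- elements of the image of `D` are central in `X ⧸ R`
  have hDc : ∀ d ∈ D, ∀ y : X ⧸ R, y * (QuotientGroup.mk d : X ⧸ R) = QuotientGroup.mk d * y := by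
    intro d hd y
    obtain ⟨y, rfl⟩ := QuotientGroup.mk_surjective y
    have h3 : (QuotientGroup.mk (y * d * y⁻¹ * d⁻¹) : X ⧸ R) = 1 :=
      (QuotientGroup.eq_one_iff _).mpr (hcent y d hd)
    rw [← QuotientGroup.mk_mul, ← QuotientGroup.mk_mul]
    have h4 : y * d = (y * d * y⁻¹ * d⁻¹) * (d * y) := by group
    rw [h4, QuotientGroup.mk_mul, h3, one_mul]
  have hker : φ.ker = ⊤ := by
    apply eq_top_of_commutator_mem hP
    intro a b
    rw [MonoidHom.mem_ker, map_mul, map_mul, map_mul, map_inv, map_inv]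
    have hc : φ a * φ b = φ b * φ a := by
      rw [hφ b]
      exact hDc _ (hn b) (φ a)
    rw [hc]
    group
  have : x ∈ φ.ker := by rw [hker]; trivial
  rw [MonoidHom.mem_ker, hφ] at this
  exact (QuotientGroup.eq_one_iff _).mp this

theorem main : Cfsg.Agent.Lib.Helper31.ECStmt.QS5.{u} := by
  intro X _ _ R D hRn hDn hP hRD hcent hQ
  have hDtop : D ≠ ⊤ := by
    intro h
    have hnt := Cfsg.Agent.Lib.Helper21.Quasi.nontrivial hQ
    have hss : Subsingleton (X ⧸ D) := by
      refine ⟨fun a b => ?_⟩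
      obtain ⟨a, rfl⟩ := QuotientGroup.mk_surjective a
      obtain ⟨b, rfl⟩ := QuotientGroup.mk_surjective b
      rw [QuotientGroup.eq, h]
      trivial
    exact not_subsingleton _ hss
  have hnt : Nontrivial (X ⧸ R) := by
    by_contra hns
    rw [not_nontrivial_iff_subsingleton] at hns
    apply hDtop
    rw [eq_top_iff]
    intro x _
    apply hRD
    have : (QuotientGroup.mk x : X ⧸ R) = 1 := Subsingleton.elim _ _
    exact (QuotientGroup.eq_one_iff x).mp this
  have hPR : Group.IsPerfect (X ⧸ R) :=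
    Group.IsPerfect.ofSurjective (f := QuotientGroup.mk' R) (QuotientGroup.mk'_surjective R)
  apply Cfsg.Agent.Lib.Helper22.Layer.isQuasisimple_of_dichotomy hPR hnt
  intro Nb hNb
  set N : Subgroup X := Nb.comap (QuotientGroup.mk' R) with hN
  have hNn : N.Normal := hNb.comap _
  have hRN : R ≤ N := by
    intro r hr
    show QuotientGroup.mk' R r ∈ Nb
    have : (QuotientGroup.mk' R r) = 1 := (QuotientGroup.eq_one_iff r).mpr hr
    rw [this]; exact Nb.one_mem
  have hmapn : (N.map (QuotientGroup.mk' D)).Normal :=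
    hNn.map _ (QuotientGroup.mk'_surjective D)
  rcases Cfsg.Agent.Lib.Helper21.Quasi.normal_eq_top_or_le_center hQ
      (N.map (QuotientGroup.mk' D)) with h | h
  · left
    have hdec : ∀ x : X, ∃ n ∈ N, ∃ d ∈ D, x = n * d := by
      intro x
      have hx : QuotientGroup.mk' D x ∈ N.map (QuotientGroup.mk' D) := by rw [h]; trivial
      obtain ⟨n, hn, hnx⟩ := hx
      refine ⟨n, hn, n⁻¹ * x, ?_, by group⟩
      exact QuotientGroup.eq.mp hnx
    have hNtop : N = ⊤ := by
      apply eq_top_of_commutator_mem hP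
      intro x y
      obtain ⟨n1, hn1, d1, hd1, rfl⟩ := hdec x
      obtain ⟨n2, hn2, d2, hd2, rfl⟩ := hdec y
      have hq : ∀ n ∈ N, (QuotientGroup.mk n : X ⧸ N) = 1 :=
        fun n hn => (QuotientGroup.eq_one_iff n).mpr hn
      apply (QuotientGroup.eq_one_iff _).mp
      rw [QuotientGroup.mk_mul, QuotientGroup.mk_mul, QuotientGroup.mk_mul, QuotientGroup.mk_inv,
        QuotientGroup.mk_inv, QuotientGroup.mk_mul, QuotientGroup.mk_mul, hq n1 hn1, hq n2 hn2,
        one_mul, one_mul, ← QuotientGroup.mk_inv, ← QuotientGroup.mk_inv, ← QuotientGroup.mk_mul,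
        ← QuotientGroup.mk_mul, ← QuotientGroup.mk_mul]
      exact hq _ (hRN (hcent d1 d2 hd2))
    rw [eq_top_iff]
    intro y _
    obtain ⟨x, rfl⟩ := QuotientGroup.mk'_surjective R y
    have : x ∈ N := by rw [hNtop]; trivial
    exact this
  · right
    intro yb hyb
    obtain ⟨n, rfl⟩ := QuotientGroup.mk_surjective yb
    have hnN : n ∈ N := hyb
    have hnD : ∀ x : X, n * x * n⁻¹ * x⁻¹ ∈ D := by
      intro x
      have hc : QuotientGroup.mk' D n ∈ center (X ⧸ D) := h ⟨n, hnN, rfl⟩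
      have hc' := (Subgroup.mem_center_iff.mp hc) (QuotientGroup.mk' D x)
      apply (QuotientGroup.eq_one_iff _).mp
      have e1 : (QuotientGroup.mk (n * x * n⁻¹ * x⁻¹) : X ⧸ D) =
          QuotientGroup.mk' D n * QuotientGroup.mk' D x * (QuotientGroup.mk' D n)⁻¹ *
            (QuotientGroup.mk' D x)⁻¹ := rfl
      rw [e1, ← hc', mul_inv_cancel_right, mul_inv_cancel]
    rw [Subgroup.mem_center_iff]
    intro zb
    obtain ⟨x, rfl⟩ := QuotientGroup.mk_surjective zb
    have hR := comm_mem_of_central hP R D hcent n hnD x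
    have e2 : (QuotientGroup.mk (n * x * n⁻¹ * x⁻¹) : X ⧸ R) = 1 :=
      (QuotientGroup.eq_one_iff _).mpr hR
    have e3 : n * x = (n * x * n⁻¹ * x⁻¹) * (x * n) := by group
    have e4 : (QuotientGroup.mk (n * x) : X ⧸ R) = QuotientGroup.mk (x * n) := by
      rw [e3, QuotientGroup.mk_mul, e2, one_mul]
    rw [← QuotientGroup.mk_mul, ← QuotientGroup.mk_mul]
    exact e4.symm

end Cfsg.Agent.Lib.Helper78.ECQS5
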