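import Mathlib
import Cfsg.Agent.Lib.Helper68.FixStmt

set_option autoImplicit false

/-! S4414 piece [INDEP] (second seat): the `H`-orbit of `w0` is linearly independent
(its points are nonzero common eigenvectors of `V` with pairwise distinct characters). -/

namespace Cfsg.Agent.Lib.Helper78.FixINDEP

open Cfsg.Agent.Lib.Helper68.FixStmt

universe u v

theorem main : INDEP.{u, v} := by
  intro k _ S _ _ M _ _ ρ V H lam w0 hVn hw0 heig hfix
  classical
  have hrep : ∀ b : {m : M // ∃ h ∈ H, ρ h w0 = m}, ∃ h : S, h ∈ H ∧ ρ h w0 = (b : M) :=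
    fun b => b.2
  choose r hrH hr using hrep
  -- the character of an orbit point
  have hE : ∀ b : {m : M // ∃ h ∈ H, ρ h w0 = m}, ∀ v ∈ V,
      ρ v (b : M) = lam ((r b)⁻¹ * v * r b) • (b : M) := by
    intro b v hv
    have hv' : (r b)⁻¹ * v * r b ∈ V := by
      have h1 := hVn.conj_mem v hv (r b)⁻¹
      simpa using h1
    have h1 := heig _ hv'
    have e : v * r b = r b * ((r b)⁻¹ * v * r b) := by group
    calc ρ v (b : M) = ρ v (ρ (r b) w0) := by rw [hr b]
      _ = ρ (v * r b) w0 := by rw [map_mul, Module.End.mul_apply]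
      _ = ρ (r b * ((r b)⁻¹ * v * r b)) w0 := by rw [← e]
      _ = ρ (r b) (ρ ((r b)⁻¹ * v * r b) w0) := by rw [map_mul, Module.End.mul_apply]
      _ = ρ (r b) (lam ((r b)⁻¹ * v * r b) • w0) := by rw [h1]
      _ = lam ((r b)⁻¹ * v * r b) • ρ (r b) w0 := by rw [map_smul]
      _ = lam ((r b)⁻¹ * v * r b) • (b : M) := by rw [hr b]
  have hNZ : ∀ b : {m : M // ∃ h ∈ H, ρ h w0 = m}, (b : M) ≠ 0 := by
    intro b hb
    apply hw0
    have h1 : ρ (r b)⁻¹ (ρ (r b) w0) = w0 := by
      rw [← Module.End.mul_apply, ← map_mul, inv_mul_cancel, map_one, Module.End.one_apply]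
    rw [hr b, hb, map_zero] at h1
    exact h1.symm
  have hD : ∀ b b' : {m : M // ∃ h ∈ H, ρ h w0 = m}, b ≠ b' →
      ∃ v ∈ V, lam ((r b)⁻¹ * v * r b) ≠ lam ((r b')⁻¹ * v * r b') := by
    intro b b' hbb
    by_contra hcon
    push Not at hcon
    apply hbb
    have hg : ρ ((r b)⁻¹ * r b') w0 = w0 := by
      apply hfix _ (H.mul_mem (H.inv_mem (hrH b)) (hrH b'))
      intro v hv
      have hv' : r b * v * (r b)⁻¹ ∈ V := hVn.conj_mem v hv (r b)
      have h1 := hcon _ hv'
      have e1 : (r b)⁻¹ * (r b * v * (r b)⁻¹) * r b = v := by group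
      have e2 : ((r b)⁻¹ * r b')⁻¹ * v * ((r b)⁻¹ * r b') =
          (r b')⁻¹ * (r b * v * (r b)⁻¹) * r b' := by group
      rw [e1] at h1
      rw [e2, ← h1]
    apply Subtype.ext
    have e3 : r b * ((r b)⁻¹ * r b') = r b' := by group
    calc (b : M) = ρ (r b) w0 := (hr b).symm
      _ = ρ (r b) (ρ ((r b)⁻¹ * r b') w0) := by rw [hg]
      _ = ρ (r b * ((r b)⁻¹ * r b')) w0 := by
        rw [map_mul ρ (r b) ((r b)⁻¹ * r b'), Module.End.mul_apply]
      _ = ρ (r b') w0 := by rw [e3]
      _ = (b' : M) := hr b'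
  rw [linearIndependent_iff']
  intro s
  induction s using Finset.induction_on with
  | empty =>
    intro g _ i hi
    simp at hi
  | insert b₀ s hb₀ ih =>
    intro g hsum i hi
    rw [Finset.sum_insert hb₀] at hsum
    have hs : ∀ j ∈ s, g j = 0 := by
      intro j hj
      have hjb : j ≠ b₀ := fun h => hb₀ (h ▸ hj)
      obtain ⟨v, hv, hχ⟩ := hD j b₀ hjb
      let T : M →ₗ[k] M := ρ v - lam ((r b₀)⁻¹ * v * r b₀) • LinearMap.id
      have hT : ∀ b : {m : M // ∃ h ∈ H, ρ h w0 = m}, T (b : M) =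
          (lam ((r b)⁻¹ * v * r b) - lam ((r b₀)⁻¹ * v * r b₀)) • (b : M) := by
        intro b
        simp only [T, LinearMap.sub_apply, LinearMap.smul_apply, LinearMap.id_apply]
        rw [hE b v hv, sub_smul]
      have h2 := congrArg T hsum
      rw [map_add, map_smul, map_sum, map_zero, hT b₀, sub_self, zero_smul, smul_zero,
        zero_add] at h2
      have h1 : ∑ i ∈ s, (g i * (lam ((r i)⁻¹ * v * r i) - lam ((r b₀)⁻¹ * v * r b₀))) •
          (i : M) = 0 := by
        rw [← h2]
        apply Finset.sum_congr rfl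
        intro i _
        rw [map_smul, hT i, mul_smul]
      have h6 := ih _ h1 j hj
      rcases mul_eq_zero.mp h6 with h | h
      · exact h
      · exact absurd (sub_eq_zero.mp h) hχ
    rw [Finset.mem_insert] at hi
    rcases hi with rfl | hi
    · have h1 : ∑ j ∈ s, g j • (j : M) = 0 :=
        Finset.sum_eq_zero (fun j hj => by rw [hs j hj, zero_smul])
      rw [h1, add_zero] at hsum
      exact (smul_eq_zero.mp hsum).resolve_right (hNZ _)
    · exact hs i hi

end Cfsg.Agent.Lib.Helper78.FixINDEP
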