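import Mathlib
import Cfsg.Prelude.Def_Characters
import Cfsg.Agent.Lib.CT.LinChar
import Cfsg.Agent.Lib.CT.Ops
import Cfsg.Agent.Lib.CT.Wedderburn
import Cfsg.Agent.Lib.Helper15.LinExt
import Cfsg.Agent.Lib.Helper15.CliffTools
import Cfsg.Agent.Lib.Helper78.CliffordCorr

set_option autoImplicit false

/-!
# Invariant characters over invariant linear characters

`N ≤ G` normal subgroups of the finite group `Γ` with `([Γ:G],[G:N]) = 1`, and `φ` a
`Γ`-invariant linear character of `N`: there is a `Γ`-invariant irreducible character of `G` over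
`φ`, provided the coprime existence principle `CE` (Isaacs 13.28 and its solvable-quotient
companion) is available.
-/

namespace Cfsg.Agent.Lib.Helper78.InvLin

open Cfsg

universe u

/-- The coprime existence principle: the common form of Isaacs 13.28 (operator group solvable)
and its companion with solvable quotient. -/
def CE : Prop :=
  ∀ (Γ : Type u) [Group Γ] [Fintype Γ] (G S N : Subgroup Γ) [Fintype G] [Fintype N]
    (_ : ∀ s ∈ S, ∀ g ∈ G, s * g * s⁻¹ ∈ G) (hNG : N ≤ G) [(N.subgroupOf G).Normal]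
    (_ : ∀ s ∈ S, ∀ n ∈ N, s * n * s⁻¹ ∈ N) (_ : (Nat.card G).Coprime (Nat.card S))
    (_ : Group.IsSolvable S ∨ Group.IsSolvable (G ⧸ N.subgroupOf G)) (θ : IrrCharacter N)
    (_ : ∀ s ∈ S, ∀ g g' : N, (g' : Γ) = s * g * s⁻¹ → θ.1 g' = θ.1 g),
    ∃ χ : IrrCharacter G, classInner (fun n : N => χ.1 ⟨n, hNG n.2⟩) θ.1 ≠ 0 ∧
      ∀ s ∈ S, ∀ g g' : G, (g' : Γ) = s * g * s⁻¹ → χ.1 g' = χ.1 g

/-- Splitting a positive number into a part dividing a power of `s` and a part prime to `s`. -/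
theorem exists_split (s : ℕ) : ∀ n : ℕ, 0 < n →
    ∃ a b k : ℕ, n = a * b ∧ a ∣ s ^ k ∧ Nat.Coprime b s := by
  intro n
  induction n using Nat.strong_induction_on with
  | _ n ih =>
    intro hn
    by_cases h : Nat.Coprime n s
    · exact ⟨1, n, 0, by simp, by simp, h⟩
    · obtain ⟨g, hg⟩ : ∃ g, g = Nat.gcd n s := ⟨_, rfl⟩
      have hg0 : g ≠ 0 := by
        intro h0
        rw [h0] at hg
        have := Nat.gcd_eq_zero_iff.1 hg.symm
        omega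
      have hg1 : g ≠ 1 := by
        intro h1
        apply h
        rw [h1] at hg
        exact hg.symm
      have hgn : g ∣ n := hg ▸ Nat.gcd_dvd_left n s
      have hgs : g ∣ s := hg ▸ Nat.gcd_dvd_right n s
      obtain ⟨c, hc⟩ := hgn
      have hcpos : 0 < c := by
        rcases Nat.eq_zero_or_pos c with h0 | h0
        · rw [h0, mul_zero] at hc
          omega
        · exact h0
      have hclt : c < n := by
        rw [hc]
        have h2 : 2 ≤ g := by omega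
        nlinarith
      obtain ⟨a, b, k, hab, hak, hb⟩ := ih c hclt hcpos
      refine ⟨g * a, b, k + 1, ?_, ?_, hb⟩
      · rw [hc, hab, mul_assoc]
      · rw [pow_succ, mul_comm (s ^ k) s]
        exact Nat.mul_dvd_mul hgs hak

section quot

variable {Γ : Type u} [Group Γ] [Finite Γ] (G N : Subgroup Γ) [hG : G.Normal] [hN : N.Normal]

/-- The case of a linear character whose order is prime to `[Γ:G]`. -/
theorem linear_coprime (hCE : CE.{u}) (hNG : N ≤ G)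
    (hcop : (G.index).Coprime (N.relIndex G))
    (hsolv : Group.IsSolvable (Γ ⧸ G) ∨ Group.IsSolvable (G ⧸ N.subgroupOf G))
    (φ : N →* ℂˣ)
    (hinv : ∀ (x : Γ) (n : N), φ ⟨x * n * x⁻¹, hN.conj_mem n n.2 x⟩ = φ n)
    (hord : (orderOf φ).Coprime G.index) :
    ∃ χ : IrrCharacter G,
      (∃ e : ℕ, e ≠ 0 ∧ ∀ n : N, χ.1 ⟨n, hNG n.2⟩ = e * ((φ n : ℂˣ) : ℂ)) ∧
      ∀ (x : Γ) (g : G), χ.1 ⟨x * g * x⁻¹, hG.conj_mem g g.2 x⟩ = χ.1 g := by
  classical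
  -- the kernel of `φ` as a normal subgroup of `Γ`
  let K : Subgroup Γ := φ.ker.map N.subtype
  have hKmem : ∀ k : Γ, k ∈ K ↔ ∃ h : k ∈ N, φ ⟨k, h⟩ = 1 := by
    intro k
    constructor
    · rintro ⟨n, hn, rfl⟩
      exact ⟨n.2, hn⟩
    · rintro ⟨h, hk⟩
      exact ⟨⟨k, h⟩, hk, rfl⟩
  have hKN : K ≤ N := fun k hk => ((hKmem k).1 hk).1
  have hKnormal : K.Normal := by
    constructor
    intro k hk x
    obtain ⟨h, hk1⟩ := (hKmem k).1 hk
    refine (hKmem _).2 ⟨hN.conj_mem k h x, ?_⟩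
    rw [← hk1]
    exact hinv x ⟨k, h⟩
  let q : Γ →* Γ ⧸ K := QuotientGroup.mk' K
  have hq : Function.Surjective q := QuotientGroup.mk'_surjective K
  have hqker : ∀ x : Γ, q x = 1 ↔ x ∈ K := fun x => QuotientGroup.eq_one_iff x
  let G₁ : Subgroup (Γ ⧸ K) := G.map q
  let N₁ : Subgroup (Γ ⧸ K) := N.map q
  have hG₁ : G₁.Normal := Subgroup.Normal.map hG q hq
  have hN₁ : N₁.Normal := Subgroup.Normal.map hN q hq
  have hNG₁ : N₁ ≤ G₁ := Subgroup.map_mono hNG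
  have hkerq : q.ker = K := QuotientGroup.ker_mk' K
  have hidx : G₁.index = G.index :=
    Subgroup.index_map_eq G hq (by rw [hkerq]; exact hKN.trans hNG)
  -- exponent bound for `G₁`
  set m := N.relIndex G with hm
  set o := orderOf φ with ho
  have hpowG : ∀ g : Γ, g ∈ G → g ^ m ∈ N := by
    intro g hg
    have h1 := Subgroup.pow_index_mem (N.subgroupOf G) (⟨g, hg⟩ : G)
    rw [Subgroup.mem_subgroupOf] at h1
    exact h1
  have hpowN : ∀ n : Γ, n ∈ N → n ^ o ∈ K := by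
    intro n hn
    refine (hKmem _).2 ⟨N.pow_mem hn o, ?_⟩
    have h1 : (⟨n ^ o, N.pow_mem hn o⟩ : N) = (⟨n, hn⟩ : N) ^ o := rfl
    rw [h1, map_pow, ← MonoidHom.pow_apply, ho, pow_orderOf_eq_one]
    rfl
  have hexp : ∀ y : Γ ⧸ K, y ∈ G₁ → y ^ (m * o) = 1 := by
    rintro y ⟨g, hg, rfl⟩
    rw [← map_pow, hqker, pow_mul]
    exact hpowN _ (hpowG g hg)
  have hGpos : 0 < G.index := Nat.pos_of_ne_zero Subgroup.index_ne_zero_of_finite
  have hmo : Nat.Coprime (m * o) G.index :=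
    Nat.Coprime.mul_left hcop.symm hord
  have hcop₁ : Nat.Coprime (Nat.card G₁) G₁.index := by
    rw [hidx]
    apply Nat.coprime_of_dvd
    intro r hr hr1 hr2
    have : Fact r.Prime := ⟨hr⟩
    obtain ⟨y, hy⟩ := exists_prime_orderOf_dvd_card' r hr1
    have h1 : (y : Γ ⧸ K) ^ (m * o) = 1 := hexp y y.2
    have h2 : y ^ (m * o) = 1 := Subtype.ext h1
    have h3 : r ∣ m * o := by
      rw [← hy]
      exact orderOf_dvd_of_pow_eq_one h2
    have h4 := Nat.dvd_gcd h3 hr2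
    rw [hmo] at h4
    exact hr.one_lt.ne' (Nat.dvd_one.1 h4)
  -- Schur-Zassenhaus
  obtain ⟨S₁, hS₁⟩ := Subgroup.exists_left_complement'_of_coprime hcop₁
  have hcardS : Nat.card S₁ = G₁.index := hS₁.index_eq_card.symm
  have hdecomp : ∀ γ : Γ ⧸ K, ∃ s ∈ S₁, ∃ g ∈ G₁, γ = s * g := by
    intro γ
    obtain ⟨⟨s, g⟩, hsg⟩ := hS₁.2 γ
    exact ⟨s.1, s.2, g.1, g.2, hsg.symm⟩
  -- solvability in the quotient
  have hsolv₁ : Group.IsSolvable S₁ ∨ Group.IsSolvable (G₁ ⧸ N₁.subgroupOf G₁) := by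
    rcases hsolv with hs | hs
    · left
      have hKker : K ≤ (QuotientGroup.mk' G).ker := by
        rw [QuotientGroup.ker_mk']
        exact hKN.trans hNG
      let r : Γ ⧸ K →* Γ ⧸ G := QuotientGroup.lift K (QuotientGroup.mk' G) hKker
      have hr : ∀ y : Γ ⧸ K, r y = 1 → y ∈ G₁ := by
        intro y hy
        obtain ⟨x, rfl⟩ := hq y
        have h1 : r (q x) = QuotientGroup.mk' G x := rfl
        rw [h1] at hy
        have h2 : x ∈ G := (QuotientGroup.eq_one_iff x).1 hy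
        exact ⟨x, h2, rfl⟩
      have hinj : Function.Injective (r.comp S₁.subtype) := by
        rw [injective_iff_map_eq_one]
        intro s hs1
        have h1 : (s : Γ ⧸ K) ∈ G₁ := hr _ hs1
        have h2 : (s : Γ ⧸ K) ∈ S₁ ⊓ G₁ := ⟨s.2, h1⟩
        rw [hS₁.disjoint.eq_bot, Subgroup.mem_bot] at h2
        exact Subtype.ext h2
      exact Group.isSolvable_of_isSolvable_injective hinj
    · right
      let f : G →* G₁ := q.subgroupMap G
      have hf : Function.Surjective f := q.subgroupMap_surjective G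
      let f' : G →* G₁ ⧸ N₁.subgroupOf G₁ := (QuotientGroup.mk' (N₁.subgroupOf G₁)).comp f
      have hf' : Function.Surjective f' :=
        (QuotientGroup.mk'_surjective _).comp hf
      have hker : N.subgroupOf G ≤ f'.ker := by
        intro g hg
        rw [Subgroup.mem_subgroupOf] at hg
        rw [MonoidHom.mem_ker]
        show QuotientGroup.mk' (N₁.subgroupOf G₁) (f g) = 1
        rw [QuotientGroup.mk'_apply, QuotientGroup.eq_one_iff, Subgroup.mem_subgroupOf]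
        exact ⟨g, hg, rfl⟩
      let F : G ⧸ N.subgroupOf G →* G₁ ⧸ N₁.subgroupOf G₁ :=
        QuotientGroup.lift (N.subgroupOf G) f' hker
      have hF : Function.Surjective F := by
        intro y
        obtain ⟨g, rfl⟩ := hf' y
        exact ⟨QuotientGroup.mk g, rfl⟩
      exact Group.isSolvable_of_surjective hF
  -- the character of `N₁`
  let fN : N →* N₁ := q.subgroupMap N
  have hfN : Function.Surjective fN := q.subgroupMap_surjective N
  have hfNker : fN.ker ≤ φ.ker := by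
    intro n hn
    rw [MonoidHom.mem_ker] at hn ⊢
    have h1 : q (n : Γ) = 1 := congrArg Subtype.val hn
    obtain ⟨h, h2⟩ := (hKmem _).1 ((hqker _).1 h1)
    exact h2
  let φ₁ : N₁ →* ℂˣ := fN.liftOfSurjective hfN ⟨φ, hfNker⟩
  have hφ₁ : ∀ n : N, φ₁ (fN n) = φ n := fun n =>
    MonoidHom.liftOfRightInverse_comp_apply _ _ _ _ n
  let θ₁ : IrrCharacter N₁ :=
    ⟨fun y => ((φ₁ y : ℂˣ) : ℂ), Cfsg.Agent.Lib.CT.LinChar.isIrrCharacter_of_hom φ₁⟩
  have hθ₁inv : ∀ (γ : Γ ⧸ K) (y y' : N₁), (y' : Γ ⧸ K) = γ * y * γ⁻¹ → θ₁.1 y' = θ₁.1 y := by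
    intro γ y y' hy
    obtain ⟨x, rfl⟩ := hq γ
    obtain ⟨n, rfl⟩ := hfN y
    have h1 : y' = fN ⟨x * n * x⁻¹, hN.conj_mem n n.2 x⟩ := by
      apply Subtype.ext
      rw [hy]
      show q x * q n * (q x)⁻¹ = q (x * n * x⁻¹)
      rw [map_mul, map_mul, map_inv]
    show ((φ₁ y' : ℂˣ) : ℂ) = ((φ₁ (fN n) : ℂˣ) : ℂ)
    rw [h1, hφ₁, hφ₁, hinv]
  -- apply the coprime existence principle
  let _ : Fintype (Γ ⧸ K) := Fintype.ofFinite _
  let _ : Fintype G₁ := Fintype.ofFinite _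
  let _ : Fintype N₁ := Fintype.ofFinite _
  obtain ⟨χ₁, hχ₁over, hχ₁inv⟩ := hCE (Γ ⧸ K) G₁ S₁ N₁
    (fun s _ g hg => hG₁.conj_mem g hg s) hNG₁
    (fun s _ n hn => hN₁.conj_mem n hn s)
    (by rw [hcardS]; exact hcop₁) hsolv₁ θ₁
    (fun s _ g g' hg => hθ₁inv s g g' hg)
  -- the values of `χ₁` on `N₁`
  obtain ⟨e, he, hval⟩ : ∃ e : ℕ, e ≠ 0 ∧
      ∀ y : N₁, χ₁.1 ⟨y, hNG₁ y.2⟩ = e * θ₁.1 y := by
    let E : N₁.subgroupOf G₁ ≃* N₁ := Subgroup.subgroupOfEquivOfLe hNG₁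
    have hϑ : IsIrrCharacter (N₁.subgroupOf G₁) (fun k => θ₁.1 (E k)) :=
      Cfsg.Agent.Lib.CT.Ops.isIrrCharacter_comp_mulEquiv E θ₁.2
    have hcon : classInner (fun k : N₁.subgroupOf G₁ => χ₁.1 k) (fun k => θ₁.1 (E k)) ≠ 0 := by
      have h1 := Cfsg.Agent.Lib.Helper78.CliffordCorr.classInner_comp_mulEquiv E
        (fun n : N₁ => χ₁.1 ⟨n, hNG₁ n.2⟩) θ₁.1
      have h2 : (fun k : N₁.subgroupOf G₁ => (fun n : N₁ => χ₁.1 ⟨n, hNG₁ n.2⟩) (E k)) =
          fun k : N₁.subgroupOf G₁ => χ₁.1 k := rfl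
      rw [h2] at h1
      rw [h1]
      exact hχ₁over
    obtain ⟨e, he, hres, -⟩ :=
      Cfsg.Agent.Lib.Helper15.CliffTools.restrict_eq_smul_of_invariant (N₁.subgroupOf G₁)
        inferInstance χ₁.2 hϑ
        (fun g k => hθ₁inv (g : Γ ⧸ K) (E k) (E ⟨g * k * g⁻¹, _⟩) rfl) hcon
    refine ⟨e, he.ne', fun y => ?_⟩
    have h3 := congrFun hres (⟨⟨y, hNG₁ y.2⟩, y.2⟩ : N₁.subgroupOf G₁)
    have hE : E ⟨⟨y, hNG₁ y.2⟩, y.2⟩ = y := rfl
    simp only [Pi.smul_apply, smul_eq_mul, hE] at h3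
    exact h3
  -- inflate
  let fG : G →* G₁ := q.subgroupMap G
  have hfG : Function.Surjective fG := q.subgroupMap_surjective G
  refine ⟨⟨fun g => χ₁.1 (fG g),
    Cfsg.Agent.Lib.CT.Ops.isIrrCharacter_comp_surjective fG hfG χ₁.2⟩, ⟨e, he, fun n => ?_⟩,
    fun x g => ?_⟩
  · show χ₁.1 (fG ⟨n, hNG n.2⟩) = e * ((φ n : ℂˣ) : ℂ)
    have h1 : fG ⟨n, hNG n.2⟩ = ⟨fN n, hNG₁ (fN n).2⟩ := rfl
    rw [h1, hval, ← hφ₁]
  · show χ₁.1 (fG ⟨x * g * x⁻¹, hG.conj_mem g g.2 x⟩) = χ₁.1 (fG g)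
    obtain ⟨s, hs, g₁, hg₁, hsg⟩ := hdecomp (q x)
    have hmem : g₁ * (fG g : Γ ⧸ K) * g₁⁻¹ ∈ G₁ := hG₁.conj_mem _ (fG g).2 g₁
    have h1 : ((fG ⟨x * g * x⁻¹, hG.conj_mem g g.2 x⟩ : G₁) : Γ ⧸ K) =
        s * ((⟨g₁ * (fG g : Γ ⧸ K) * g₁⁻¹, hmem⟩ : G₁) : Γ ⧸ K) * s⁻¹ := by
      show q (x * g * x⁻¹) = s * (g₁ * q g * g₁⁻¹) * s⁻¹
      rw [map_mul, map_mul, map_inv, hsg]
      group
    rw [hχ₁inv s hs _ _ h1]
    have h2 : (⟨g₁ * (fG g : Γ ⧸ K) * g₁⁻¹, hmem⟩ : G₁) = ⟨g₁, hg₁⟩ * fG g * ⟨g₁, hg₁⟩⁻¹ := rfl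
    rw [h2]
    exact Cfsg.Agent.Lib.CT.Wedderburn.char_isClassFunction
      (Cfsg.Agent.Lib.CT.Wedderburn.isCharacter_of_irr χ₁.2) _ _

/-- The case of an arbitrary invariant linear character. -/
theorem linear_case (hCE : CE.{u}) (hNG : N ≤ G)
    (hcop : (G.index).Coprime (N.relIndex G))
    (hsolv : Group.IsSolvable (Γ ⧸ G) ∨ Group.IsSolvable (G ⧸ N.subgroupOf G))
    (φ : N →* ℂˣ)
    (hinv : ∀ (x : Γ) (n : N), φ ⟨x * n * x⁻¹, hN.conj_mem n n.2 x⟩ = φ n) :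
    ∃ χ : IrrCharacter G,
      (∃ e : ℕ, e ≠ 0 ∧ ∀ n : N, χ.1 ⟨n, hNG n.2⟩ = e * ((φ n : ℂˣ) : ℂ)) ∧
      ∀ (x : Γ) (g : G), χ.1 ⟨x * g * x⁻¹, hG.conj_mem g g.2 x⟩ = χ.1 g := by
  classical
  have hnpos : 0 < orderOf φ := Cfsg.Agent.Lib.Helper15.LinExt.orderOf_hom_pos φ
  obtain ⟨a, b, k, hab, hak, hb⟩ := exists_split G.index (orderOf φ) hnpos
  have hcab : Nat.Coprime a b :=
    Nat.Coprime.coprime_dvd_left hak (Nat.Coprime.pow_left k hb.symm)
  obtain ⟨x, y, hxy⟩ : ∃ x y : ℤ, x * a + y * b = 1 := by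
    have h1 : IsCoprime (a : ℤ) (b : ℤ) := Nat.isCoprime_iff_coprime.2 hcab
    exact h1
  -- the two parts
  set φ₁ : N →* ℂˣ := φ ^ (x * a) with hφ₁
  set φ₂ : N →* ℂˣ := φ ^ (y * b) with hφ₂
  have hφn : ∀ n : N, φ n ^ (orderOf φ) = 1 := by
    intro n
    rw [← MonoidHom.pow_apply, pow_orderOf_eq_one]
    rfl
  have hmul : φ = φ₁ * φ₂ := by
    ext n
    rw [MonoidHom.mul_apply, hφ₁, hφ₂, MonoidHom.zpow_apply, MonoidHom.zpow_apply, ← zpow_add, hxy,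
      zpow_one]
  have hφ₁b : φ₁ ^ b = 1 := by
    ext n
    rw [MonoidHom.pow_apply, hφ₁, MonoidHom.zpow_apply, ← zpow_natCast, ← zpow_mul]
    have h1 : x * (a : ℤ) * (b : ℤ) = ((orderOf φ : ℕ) : ℤ) * x := by
      rw [hab]
      push_cast
      ring
    rw [h1, zpow_mul, zpow_natCast, hφn, one_zpow]
    rfl
  have hφ₂a : φ₂ ^ a = 1 := by
    ext n
    rw [MonoidHom.pow_apply, hφ₂, MonoidHom.zpow_apply, ← zpow_natCast, ← zpow_mul]
    have h1 : y * (b : ℤ) * (a : ℤ) = ((orderOf φ : ℕ) : ℤ) * y := by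
      rw [hab]
      push_cast
      ring
    rw [h1, zpow_mul, zpow_natCast, hφn, one_zpow]
    rfl
  have hinv₁ : ∀ (x : Γ) (n : N), φ₁ ⟨x * n * x⁻¹, hN.conj_mem n n.2 x⟩ = φ₁ n := by
    intro x n
    rw [hφ₁, MonoidHom.zpow_apply, MonoidHom.zpow_apply, hinv]
  have hinv₂ : ∀ (x : Γ) (n : N), φ₂ ⟨x * n * x⁻¹, hN.conj_mem n n.2 x⟩ = φ₂ n := by
    intro x n
    rw [hφ₂, MonoidHom.zpow_apply, MonoidHom.zpow_apply, hinv]
  have hord₁ : (orderOf φ₁).Coprime G.index :=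
    Nat.Coprime.coprime_dvd_left (orderOf_dvd_of_pow_eq_one hφ₁b) hb
  -- the first part
  obtain ⟨χ₁, ⟨e, he, hval⟩, hχ₁inv⟩ := linear_coprime G N hCE hNG hcop hsolv φ₁ hinv₁ hord₁
  -- the second part extends to an invariant linear character of `G`
  let E : N.subgroupOf G ≃* N := Subgroup.subgroupOfEquivOfLe hNG
  let lam : N.subgroupOf G →* ℂˣ := φ₂.comp E.toMonoidHom
  have hlam : ∀ k : N.subgroupOf G, lam k = φ₂ (E k) := fun k => rfl
  have hlama : lam ^ a = 1 := by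
    ext k
    rw [MonoidHom.pow_apply, hlam, ← MonoidHom.pow_apply, hφ₂a]
    rfl
  have hca : Nat.Coprime (N.subgroupOf G).index a := by
    have h1 : Nat.Coprime (G.index ^ k) (N.relIndex G) := Nat.Coprime.pow_left k hcop
    exact (Nat.Coprime.coprime_dvd_left hak h1).symm
  have hclam : Nat.Coprime (N.subgroupOf G).index (orderOf lam) :=
    Nat.Coprime.coprime_dvd_right (orderOf_dvd_of_pow_eq_one hlama) hca
  have hlaminv : ∀ (g : G) (k : N.subgroupOf G),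
      lam ⟨g * k * g⁻¹, (inferInstance : (N.subgroupOf G).Normal).conj_mem (k : G) k.2 g⟩ =
        lam k := by
    intro g k
    rw [hlam, hlam]
    exact hinv₂ (g : Γ) (E k)
  obtain ⟨μ, hμ, hμord⟩ :=
    Cfsg.Agent.Lib.Helper15.LinExt.exists_extension_of_coprime (N.subgroupOf G) lam hlaminv hclam
  have hμinv : ∀ (x : Γ) (g : G), μ ⟨x * g * x⁻¹, hG.conj_mem g g.2 x⟩ = μ g := by
    intro x
    let c : G ≃* G := MulAut.conjNormal x
    have hc : ∀ g : G, c g = ⟨x * g * x⁻¹, hG.conj_mem g g.2 x⟩ := fun g =>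
      Subtype.ext (MulAut.conjNormal_apply x g)
    let μx : G →* ℂˣ := μ.comp c.toMonoidHom
    have hμx : ∀ g : G, μx g = μ (c g) := fun g => rfl
    have h1 : ∀ k : N.subgroupOf G, μx k = μ k := by
      intro k
      have hmem : c (k : G) ∈ N.subgroupOf G := by
        rw [Subgroup.mem_subgroupOf, hc]
        exact hN.conj_mem _ k.2 x
      have h2 : μ (c (k : G)) = lam ⟨c (k : G), hmem⟩ := hμ ⟨c (k : G), hmem⟩
      rw [hμx, h2, hμ k, hlam, hlam]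
      have h3 : E ⟨c (k : G), hmem⟩ = ⟨x * (E k : Γ) * x⁻¹, hN.conj_mem _ (E k).2 x⟩ := by
        apply Subtype.ext
        show ((c (k : G) : G) : Γ) = x * ((k : G) : Γ) * x⁻¹
        rw [hc]
      rw [h3]
      exact hinv₂ x (E k)
    have h4 : μx ^ orderOf μ = 1 := by
      ext g
      rw [MonoidHom.pow_apply, hμx, ← MonoidHom.pow_apply, pow_orderOf_eq_one]
      rfl
    have hcμ : Nat.Coprime (N.subgroupOf G).index (orderOf μ) := by
      rw [hμord]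
      exact hclam
    have hcμx : Nat.Coprime (N.subgroupOf G).index (orderOf μx) :=
      Nat.Coprime.coprime_dvd_right (orderOf_dvd_of_pow_eq_one h4) hcμ
    have h5 : μx = μ :=
      Cfsg.Agent.Lib.Helper15.LinExt.extension_unique_of_coprime (N.subgroupOf G) μx μ h1 hcμx hcμ
    intro g
    rw [← hc, ← hμx, h5]
  -- the product
  have hμchar : IsCharacter G (fun g => ((μ g : ℂˣ) : ℂ)) :=
    Cfsg.Agent.Lib.CT.LinChar.isCharacter_of_hom μ
  have hirr : IsIrrCharacter G (fun g => χ₁.1 g * ((μ g : ℂˣ) : ℂ)) :=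
    Cfsg.Agent.Lib.CT.LinChar.isIrrCharacter_mul_linear χ₁.2 hμchar (by simp)
  refine ⟨⟨_, hirr⟩, ⟨e, he, fun n => ?_⟩, fun x g => ?_⟩
  · show χ₁.1 ⟨n, hNG n.2⟩ * ((μ ⟨n, hNG n.2⟩ : ℂˣ) : ℂ) = e * ((φ n : ℂˣ) : ℂ)
    have h1 : μ ⟨n, hNG n.2⟩ = φ₂ n := hμ ⟨⟨n, hNG n.2⟩, n.2⟩
    rw [hval, h1, hmul, MonoidHom.mul_apply, Units.val_mul, mul_assoc]
  · show χ₁.1 ⟨x * g * x⁻¹, hG.conj_mem g g.2 x⟩ * ((μ ⟨x * g * x⁻¹, hG.conj_mem g g.2 x⟩ : ℂˣ) : ℂ)
      = χ₁.1 g * ((μ g : ℂˣ) : ℂ)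
    rw [hχ₁inv, hμinv]

end quot

end Cfsg.Agent.Lib.Helper78.InvLin
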