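import Mathlib
import Cfsg.Prelude.Def_Characters
import Cfsg.Agent.Lib.Helper78.InvLin
import Cfsg.Agent.Lib.Helper78.ProjLift
import Cfsg.Agent.Lib.Helper78.ProjExt
import Cfsg.Agent.Lib.Helper78.Gallagher
import Cfsg.Agent.Lib.Helper81.Irr
import Cfsg.Agent.Lib.CT.Kernel
import Cfsg.Agent.Lib.CT.FrobRec
import Cfsg.Agent.Lib.CT.NormOne
import Cfsg.Agent.Lib.CT.Orth
import Cfsg.Agent.Lib.CT.Clifford

set_option autoImplicit false

/-!
# Invariant characters over invariant characters (Isaacs 13.31): reduction to linear characters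

Through the lifting group of `Cfsg.Agent.Lib.Helper78.ProjLift` an invariant irreducible character
of a normal subgroup is replaced by an invariant linear character, for which
`Cfsg.Agent.Lib.Helper78.InvLin.linear_case` applies.
-/

namespace Cfsg.Agent.Lib.Helper78.InvRed

open Cfsg Cfsg.Agent.Lib.CT Cfsg.Agent.Lib.CT.MatCoeff Cfsg.Agent.Lib.Helper78.ProjLift
  Cfsg.Agent.Lib.Helper78.ProjExt Cfsg.Agent.Lib.Helper78.InvLin

universe u

/-- Descent of an irreducible character along a surjective homomorphism. -/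
theorem exists_descend_irr {A B : Type u} [Group A] [Group B] [Finite A] (f : A →* B)
    (hf : Function.Surjective f) {ψ : A → ℂ} (hψ : IsIrrCharacter A ψ)
    (hker : ∀ a : A, f a = 1 → ψ a = ψ 1) :
    ∃ χ : B → ℂ, IsIrrCharacter B χ ∧ ∀ a : A, χ (f a) = ψ a := by
  obtain ⟨χbar, hχbar, hval⟩ := Cfsg.Agent.Lib.CT.Kernel.exists_quotient_irr f.ker hψ
    (fun n hn => hker n hn)
  let ε : A ⧸ f.ker ≃* B := QuotientGroup.quotientKerEquivOfSurjective f hf
  refine ⟨fun b => χbar (ε.symm b), Ops.isIrrCharacter_comp_mulEquiv ε.symm hχbar, fun a => ?_⟩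
  have h1 : ε.symm (f a) = (a : A ⧸ f.ker) := by
    rw [MulEquiv.symm_apply_eq]
    rfl
  show χbar (ε.symm (f a)) = ψ a
  rw [h1, hval]

section lift

variable {Γ : Type u} [Group Γ] (N : Subgroup Γ) [hN : N.Normal] {d : ℕ}
  (σ : Representation ℂ N (Fin d → ℂ))

/-- The representation `tau` of the lifting group stays irreducible on every subgroup containing
the preimage of `N`. -/
theorem tau_restrict_irreducible [σ.IsIrreducible] (hsurj : Function.Surjective (proj N σ))
    (H : Subgroup (liftGroup N σ)) (hH : N.comap (proj N σ) ≤ H) :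
    Representation.IsIrreducible ((tau N σ).comp H.subtype : Representation ℂ H (Fin d → ℂ)) := by
  have hσ : σ.IsIrreducible := inferInstance
  rw [Cfsg.Agent.Lib.Helper81.Irr.irr_iff] at hσ ⊢
  refine ⟨hσ.1, fun U hU => hσ.2 U fun n v hv => ?_⟩
  obtain ⟨γ, hγ⟩ := hsurj n
  have hmem : proj N σ γ ∈ N := by
    rw [hγ]
    exact n.2
  have h1 := phi_spec N σ ⟨γ, hmem⟩
  have e : (⟨proj N σ γ, hmem⟩ : N) = n := Subtype.ext hγ
  simp only at h1
  rw [e] at h1
  have h2 : σ n v = phi N σ ⟨γ, hmem⟩ • (tau N σ γ v) := by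
    rw [← mat_mulVec, h1, Matrix.smul_mulVec, ← mat_tau, mat_mulVec]
  rw [h2]
  exact U.smul_mem _ (hU ⟨γ, hH hmem⟩ v hv)

end lift

/-- Isaacs 13.31 from the coprime existence principle: `N ≤ G` normal in `Γ` with
`([Γ:G],[G:N]) = 1`, `Γ/G` or `G/N` solvable; every `Γ`-invariant irreducible character of `N` lies
under a `Γ`-invariant irreducible character of `G`. -/
theorem general_case (hCE : CE.{u}) {Γ : Type u} [Group Γ] [Fintype Γ] (G N : Subgroup Γ)
    [hG : G.Normal] [hN : N.Normal] [Fintype G] [Fintype N] (hNG : N ≤ G)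
    (hcop : (G.index).Coprime (N.relIndex G))
    (hsolv : Group.IsSolvable (Γ ⧸ G) ∨ Group.IsSolvable (G ⧸ N.subgroupOf G))
    (θ : IrrCharacter N)
    (hinv : ∀ (x : Γ) (n : N), θ.1 ⟨x * n * x⁻¹, hN.conj_mem n n.2 x⟩ = θ.1 n) :
    ∃ χ : IrrCharacter G, classInner (fun n : N => χ.1 ⟨n, hNG n.2⟩) θ.1 ≠ 0 ∧
      ∀ (x : Γ) (g : G), χ.1 ⟨x * g * x⁻¹, hG.conj_mem g g.2 x⟩ = χ.1 g := by
  classical
  obtain ⟨d, σ, hσirr, hσ⟩ := θ.2
  have hinvσ : ∀ (x : Γ) (n : N),
      σ.character ⟨x * n * x⁻¹, hN.conj_mem (n : Γ) n.2 x⟩ = σ.character n := by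
    intro x n
    rw [hσ]
    exact hinv x n
  have hsurj : Function.Surjective (proj N σ) :=
    proj_surjective N σ (conjNormal_inv N σ hinvσ)
  have hfin : Finite (liftGroup N σ) := finite_liftGroup N σ
  let π : liftGroup N σ →* Γ := proj N σ
  let Gh : Subgroup (liftGroup N σ) := G.comap π
  let Nh : Subgroup (liftGroup N σ) := N.comap π
  have hGh : Gh.Normal := hG.comap π
  have hNh : Nh.Normal := hN.comap π
  have hNGh : Nh ≤ Gh := Subgroup.comap_mono hNG
  have hidx : Gh.index = G.index := Subgroup.index_comap_of_surjective G hsurj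
  have hrel : Nh.relIndex Gh = N.relIndex G := by
    show (N.comap π).relIndex (G.comap π) = N.relIndex G
    rw [Subgroup.relIndex_comap, Subgroup.map_comap_eq_self_of_surjective hsurj]
  -- solvability
  have hsolv' : Group.IsSolvable (liftGroup N σ ⧸ Gh) ∨
      Group.IsSolvable (Gh ⧸ Nh.subgroupOf Gh) := by
    rcases hsolv with hs | hs
    · left
      let f' : liftGroup N σ →* Γ ⧸ G := (QuotientGroup.mk' G).comp π
      have hker : Gh ≤ f'.ker := fun x hx => by
        rw [MonoidHom.mem_ker]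
        exact (QuotientGroup.eq_one_iff _).2 hx
      let F : liftGroup N σ ⧸ Gh →* Γ ⧸ G := QuotientGroup.lift Gh f' hker
      have hF : Function.Injective F := by
        rw [injective_iff_map_eq_one]
        intro y hy
        induction y using QuotientGroup.induction_on with
        | H x =>
          have h1 : f' x = 1 := hy
          have h2 : π x ∈ G := (QuotientGroup.eq_one_iff _).1 h1
          exact (QuotientGroup.eq_one_iff _).2 h2
      exact Group.isSolvable_of_isSolvable_injective hF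
    · right
      let f : Gh →* G := π.subgroupComap G
      let f' : Gh →* G ⧸ N.subgroupOf G := (QuotientGroup.mk' (N.subgroupOf G)).comp f
      have hker : Nh.subgroupOf Gh ≤ f'.ker := fun x hx => by
        rw [MonoidHom.mem_ker]
        refine (QuotientGroup.eq_one_iff _).2 ?_
        rw [Subgroup.mem_subgroupOf] at hx ⊢
        exact hx
      let F : Gh ⧸ Nh.subgroupOf Gh →* G ⧸ N.subgroupOf G :=
        QuotientGroup.lift (Nh.subgroupOf Gh) f' hker
      have hF : Function.Injective F := by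
        rw [injective_iff_map_eq_one]
        intro y hy
        induction y using QuotientGroup.induction_on with
        | H x =>
          have h1 : f' x = 1 := hy
          have h2 : f x ∈ N.subgroupOf G := (QuotientGroup.eq_one_iff _).1 h1
          refine (QuotientGroup.eq_one_iff _).2 ?_
          rw [Subgroup.mem_subgroupOf] at h2 ⊢
          exact h2
      exact Group.isSolvable_of_isSolvable_injective hF
  -- the linear character
  let φ : Nh →* ℂˣ := phiHom N σ
  have hφinv : ∀ (x : liftGroup N σ) (n : Nh),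
      φ ⟨x * n * x⁻¹, hNh.conj_mem n n.2 x⟩ = φ n :=
    fun x n => phiHom_conj N σ x n _
  obtain ⟨β, ⟨e, he, hβval⟩, hβinv⟩ := linear_case Gh Nh hCE hNGh
    (by rw [hidx, hrel]; exact hcop) hsolv' φ hφinv
  -- `tau` on `Gh`
  let τG : Representation ℂ Gh (Fin d → ℂ) := (tau N σ).comp Gh.subtype
  have hτirr : τG.IsIrreducible := tau_restrict_irreducible N σ hsurj Gh hNGh
  have hτG : IsIrrCharacter Gh (fun g : Gh => (tau N σ).character g) := ⟨d, τG, hτirr, rfl⟩
  let _ : Fintype (liftGroup N σ) := Fintype.ofFinite _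
  let _ : Fintype Gh := Fintype.ofFinite _
  let _ : Fintype (Nh.subgroupOf Gh) := Fintype.ofFinite _
  let E : Nh.subgroupOf Gh ≃* Nh := Subgroup.subgroupOfEquivOfLe hNGh
  let φ' : Nh.subgroupOf Gh → ℂ := fun k => ((φ (E k) : ℂˣ) : ℂ)
  have hφ' : IsIrrCharacter (Nh.subgroupOf Gh) φ' :=
    LinChar.isIrrCharacter_of_hom (φ.comp E.toMonoidHom)
  have hφ'inv : ∀ (g : Gh) (k : Nh.subgroupOf Gh),
      φ' ⟨g * k * g⁻¹, (inferInstance : (Nh.subgroupOf Gh).Normal).conj_mem (k : Gh) k.2 g⟩ =
        φ' k := by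
    intro g k
    have h1 := hφinv (g : liftGroup N σ) (E k)
    show ((φ (E ⟨g * k * g⁻¹, _⟩) : ℂˣ) : ℂ) = ((φ (E k) : ℂˣ) : ℂ)
    rw [← h1]
    rfl
  have hprodval : ∀ m : Nh,
      ((φ m : ℂˣ) : ℂ) * (tau N σ).character m.1 = θ.1 ⟨π m.1, m.2⟩ := by
    intro m
    rw [← hσ]
    exact phi_mul_eta N σ m
  let πN : Nh →* N := π.subgroupComap N
  have hπN : Function.Surjective πN :=
    MonoidHom.subgroupComap_surjective_of_surjective π N hsurj
  have hprod : IsIrrCharacter (Nh.subgroupOf Gh)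
      (fun k : Nh.subgroupOf Gh => φ' k * (tau N σ).character (k : Gh)) := by
    have h1 : IsIrrCharacter (Nh.subgroupOf Gh) (fun k => θ.1 ((πN.comp E.toMonoidHom) k)) :=
      Ops.isIrrCharacter_comp_surjective (πN.comp E.toMonoidHom)
        (hπN.comp E.surjective) θ.2
    have h2 : (fun k : Nh.subgroupOf Gh => φ' k * (tau N σ).character (k : Gh)) =
        fun k => θ.1 ((πN.comp E.toMonoidHom) k) := by
      funext k
      exact hprodval (E k)
    rw [h2]
    exact h1
  obtain ⟨hG1, -, -⟩ := Cfsg.Agent.Lib.Helper78.Gallagher.gallagher_core (Nh.subgroupOf Gh)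
    inferInstance φ' hφ' hφ'inv (fun g : Gh => (tau N σ).character g) hτG hprod
  have hβres : (fun k : Nh.subgroupOf Gh => β.1 k) = (e : ℂ) • φ' := by
    funext k
    exact hβval (E k)
  have hβover : classInner (indFun (Nh.subgroupOf Gh) φ') β.1 ≠ 0 := by
    rw [FrobRec.frobenius_reciprocity (Nh.subgroupOf Gh) φ' β.1
      (Wedderburn.char_isClassFunction (Wedderburn.isCharacter_of_irr β.2)), hβres,
      Clifford.classInner_conj_symm, Orth.classInner_smul_left,
      NormOne.inner_self_eq_one_of_irr hφ', mul_one]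
    simpa using he
  obtain ⟨hψirr, -⟩ := hG1 β hβover
  have hψval : ∀ m : Nh, (β.1 * fun g : Gh => (tau N σ).character g) ⟨m, hNGh m.2⟩ =
      e * θ.1 ⟨π m.1, m.2⟩ := by
    intro m
    show β.1 ⟨m, hNGh m.2⟩ * (tau N σ).character m.1 = _
    rw [hβval m, mul_assoc, hprodval]
  -- descend to `G`
  let f : Gh →* G := π.subgroupComap G
  have hf : Function.Surjective f := MonoidHom.subgroupComap_surjective_of_surjective π G hsurj
  have hker : ∀ a : Gh, f a = 1 → (β.1 * fun g : Gh => (tau N σ).character g) a =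
      (β.1 * fun g : Gh => (tau N σ).character g) 1 := by
    intro a ha
    have h1 : π a.1 = 1 := congrArg Subtype.val ha
    have hmem : a.1 ∈ Nh := by
      show π a.1 ∈ N
      rw [h1]
      exact N.one_mem
    have h2 := hψval ⟨a.1, hmem⟩
    have h3 := hψval 1
    have e1 : (⟨π a.1, hmem⟩ : N) = ⟨π (1 : Nh).1, (1 : Nh).2⟩ := by
      apply Subtype.ext
      show π a.1 = π ((1 : Nh) : liftGroup N σ)
      rw [h1, Subgroup.coe_one, map_one]
    rw [e1] at h2
    exact h2.trans h3.symm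
  obtain ⟨χ, hχirr, hχval⟩ := exists_descend_irr f hf hψirr hker
  refine ⟨⟨χ, hχirr⟩, ?_, ?_⟩
  · have hres : (fun n : N => χ ⟨n, hNG n.2⟩) = (e : ℂ) • θ.1 := by
      funext n
      obtain ⟨γ, hγ⟩ := hsurj (n : Γ)
      have hmem : γ ∈ Nh := by
        show π γ ∈ N
        rw [show π γ = (n : Γ) from hγ]
        exact n.2
      have h1 : (⟨n, hNG n.2⟩ : G) = f ⟨γ, hNGh hmem⟩ := Subtype.ext hγ.symm
      rw [h1, hχval, hψval ⟨γ, hmem⟩]
      have h2 : (⟨π γ, hmem⟩ : N) = n := Subtype.ext hγ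
      rw [h2]
      rfl
    show classInner (fun n : N => χ ⟨n, hNG n.2⟩) θ.1 ≠ 0
    rw [hres, Orth.classInner_smul_left, NormOne.inner_self_eq_one_of_irr θ.2, mul_one]
    exact Nat.cast_ne_zero.2 he
  · intro x g
    obtain ⟨xh, hxh⟩ := hsurj x
    obtain ⟨gh, hgh⟩ := hf g
    have h1 : (⟨x * g * x⁻¹, hG.conj_mem g g.2 x⟩ : G) =
        f ⟨xh * gh * xh⁻¹, hGh.conj_mem gh gh.2 xh⟩ := by
      apply Subtype.ext
      show x * (g : Γ) * x⁻¹ = π (xh * gh * xh⁻¹)
      rw [map_mul, map_mul, map_inv, show π xh = x from hxh, ← hgh]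
      rfl
    show χ ⟨x * g * x⁻¹, hG.conj_mem g g.2 x⟩ = χ g
    rw [h1, hχval, ← hgh, hχval]
    show β.1 ⟨xh * gh * xh⁻¹, _⟩ * (tau N σ).character (xh * gh * xh⁻¹) =
      β.1 gh * (tau N σ).character gh
    rw [hβinv, Representation.char_conj]

end Cfsg.Agent.Lib.Helper78.InvRed
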