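import Mathlib
import Cfsg.Agent.Lib.Helper1.PDStmt

set_option autoImplicit false

/-! S4020 piece [BIG]: a Sylow subgroup of exponent `p` and order divisible by `p ^ 4` is abelian
(otherwise an abelian and a nonabelian subgroup of order `p ^ 3` would be conjugate). -/

namespace Cfsg.Agent.Lib.Helper78.PDBIG

open Cfsg.Agent.Lib.Helper1.PDStmt

universe u

theorem main (hN : NonAb3.{u}) (hA : Ab3.{u}) : Big.{u} := by
  intro G _ _ hD p hp P hexp h4 a ha b hb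
  by_contra hab
  have hPp : IsPGroup p ↥(P : Subgroup G) := P.isPGroup'
  obtain ⟨H, hHP, hHcard, a', ha', b', hb', hab'⟩ :=
    hN G p (P : Subgroup G) hPp hexp ⟨a, ha, b, hb, hab⟩
  obtain ⟨A, hAP, hAcard, hAcomm⟩ := hA G p (P : Subgroup G) hPp hexp h4
  have hHp : IsPGroup p ↥H := hPp.to_le hHP
  have hAp : IsPGroup p ↥A := hPp.to_le hAP
  obtain ⟨g, hg⟩ := hD p hp.out A H hAp hHp (hAcard.trans hHcard.symm)
  rw [hg] at ha' hb'
  obtain ⟨a₁, ha₁, rfl⟩ := ha'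
  obtain ⟨b₁, hb₁, rfl⟩ := hb'
  apply hab'
  have h1 := hAcomm a₁ ha₁ b₁ hb₁
  rw [← map_mul, ← map_mul, h1]

end Cfsg.Agent.Lib.Helper78.PDBIG
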