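import Cfsg.Agent.Lib.Helper78.R3TwLib
import Cfsg.Agent.Lib.Helper36.ChevUD4

/-!
S1788 piece TWD4: `³D₄(q)`, `q` even, has an elementary abelian 2-subgroup of order `≥ 8`
(the root elements `x_{p₁}(t) x_{p₃}(t ^ q) x_{p₄}(t ^ q²)`).
-/

set_option autoImplicit false

namespace Cfsg.Agent.Lib.Helper78.R3TWD4

open Cfsg Cfsg.Lie Cfsg.Agent.Lib.Helper36.ChevU Cfsg.Agent.Lib.Helper36.ChevGen
  Cfsg.Agent.Lib.Helper36.ChevSound Cfsg.Agent.Lib.Helper78.R3TwLib

theorem main : Cfsg.Agent.Lib.Helper24.R3Stmt.RTwD4 := by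
  intro K _ _ _ q hq hcard
  have U : UFacts chevD4 K := Cfsg.Agent.Lib.Helper36.ChevUD4.facts
  have hexp : ExpChar K 2 := ExpChar.prime Nat.prime_two
  obtain ⟨n, -, hn⟩ := FiniteField.card K 2
  have hqdvd : q ∣ 2 ^ (n : ℕ) := by
    rw [← hn, hcard]
    exact dvd_pow_self q (by norm_num)
  obtain ⟨j, -, rfl⟩ := (Nat.dvd_prime_pow Nat.prime_two).mp hqdvd
  have hj : 1 ≤ j := by
    by_contra h
    have h0 : j = 0 := by omega
    subst h0
    exact absurd hq.one_lt (by norm_num)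
  have hnr : chevD4.nroots = 24 := by decide
  have h2j : 2 ≤ 2 ^ j := by
    calc 2 = 2 ^ 1 := by norm_num
      _ ≤ 2 ^ j := Nat.pow_le_pow_right (by norm_num) hj
  have h8 : 8 ≤ Nat.card K := by
    rw [Nat.card_eq_fintype_card, hcard]
    calc 8 = 2 ^ 3 := by norm_num
      _ ≤ (2 ^ j) ^ 3 := Nat.pow_le_pow_left h2j 3
  have hcab := x_comm chevD4 U 12 13 (by rw [hnr]; norm_num) (by rw [hnr]; norm_num)
    (by norm_num) (by decide) (by decide)
  have hcac := x_comm chevD4 U 12 18 (by rw [hnr]; norm_num) (by rw [hnr]; norm_num)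
    (by norm_num) (by decide) (by decide)
  have hcbc := x_comm chevD4 U 13 18 (by rw [hnr]; norm_num) (by rw [hnr]; norm_num)
    (by norm_num) (by decide) (by decide)
  apply pRank_three chevD4 U (twistedD4 K (2 ^ j)) (A := K)
    (fun x => CharTwo.add_self_eq_zero x) h8 12 13 18 (by norm_num) (by norm_num)
    (by rw [hnr]) (by rw [hnr]; norm_num)
    (iterateFrobenius K 2 (j * 2)).toAddMonoidHom (iterateFrobenius K 2 j).toAddMonoidHom
    (AddMonoidHom.id K) (fun x _ _ h => h) hcab hcac hcbc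
  intro x
  apply Subgroup.subset_closure
  refine ⟨[(d4p1, x), (d4p3, x ^ (2 ^ j)), (d4p4, x ^ ((2 ^ j) ^ 2))],
    Or.inr ⟨x, (d4p1, d4p3, d4p4), List.mem_cons_self, rfl⟩, ?_⟩
  rw [Units.val_mul, Units.val_mul, xU_val, xU_val, xU_val, wordMat_cons, wordMat_cons,
    wordMat_cons, wordMat_nil, mul_one]
  have e1 : (iterateFrobenius K 2 (j * 2)).toAddMonoidHom x = x ^ ((2 ^ j) ^ 2) := by
    show iterateFrobenius K 2 (j * 2) x = _
    rw [iterateFrobenius_def, pow_mul]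
  have e2 : (iterateFrobenius K 2 j).toAddMonoidHom x = x ^ (2 ^ j) := by
    show iterateFrobenius K 2 j x = _
    rw [iterateFrobenius_def]
  have e3 : (AddMonoidHom.id K) x = x := rfl
  rw [e1, e2, e3]
  show chevD4.x K 12 (x ^ ((2 ^ j) ^ 2)) * chevD4.x K 13 (x ^ (2 ^ j)) * chevD4.x K 18 x =
    chevD4.x K 18 x * (chevD4.x K 13 (x ^ (2 ^ j)) * chevD4.x K 12 (x ^ ((2 ^ j) ^ 2)))
  exact reorder3 _ _ _ (hcab _ _) (hcac _ _) (hcbc _ _)

end Cfsg.Agent.Lib.Helper78.R3TWD4
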