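import Cfsg.Agent.Lib.Helper78.R3TwLib
import Cfsg.Agent.Lib.Helper36.ChevUE6

/-!
S1788 piece TWE6: `²E₆(q)`, `q` even, has an elementary abelian 2-subgroup of order `≥ 8`
(the elements `x_{p₂}(s) x_{p₁}(t) x_{p₆}(t ^ q)`, `s ∈ {0, 1}`, `t ∈ K`).
-/

set_option autoImplicit false

namespace Cfsg.Agent.Lib.Helper78.R3TWE6

open Cfsg Cfsg.Lie Cfsg.Agent.Lib.Helper36.ChevU Cfsg.Agent.Lib.Helper36.ChevGen
  Cfsg.Agent.Lib.Helper36.ChevSound Cfsg.Agent.Lib.Helper78.R3TwLib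

theorem main : Cfsg.Agent.Lib.Helper24.R3Stmt.RTwE6 := by
  intro K _ _ _ q hq hcard
  have U : UFacts chevE6 K := Cfsg.Agent.Lib.Helper36.ChevUE6.facts
  have hexp : ExpChar K 2 := ExpChar.prime Nat.prime_two
  obtain ⟨n, -, hn⟩ := FiniteField.card K 2
  have hqdvd : q ∣ 2 ^ (n : ℕ) := by
    rw [← hn, hcard]
    exact dvd_pow_self q (by norm_num)
  obtain ⟨j, -, rfl⟩ := (Nat.dvd_prime_pow Nat.prime_two).mp hqdvd
  have hj : 1 ≤ j := by
    by_contra h
    have h0 : j = 0 := by omega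
    subst h0
    exact absurd hq.one_lt (by norm_num)
  have hnr : chevE6.nroots = 72 := by decide
  have h2j : 2 ≤ 2 ^ j := by
    calc 2 = 2 ^ 1 := by norm_num
      _ ≤ 2 ^ j := Nat.pow_le_pow_right (by norm_num) hj
  have h4 : 4 ≤ Fintype.card K := by
    rw [hcard]
    calc 4 = 2 ^ 2 := by norm_num
      _ ≤ (2 ^ j) ^ 2 := Nat.pow_le_pow_left h2j 2
  have h8 : 8 ≤ Nat.card (ZMod 2 × K) := by
    rw [Nat.card_eq_fintype_card, Fintype.card_prod, ZMod.card]
    omega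
  have hcab := x_comm chevE6 U 36 46 (by rw [hnr]; norm_num) (by rw [hnr]; norm_num)
    (by norm_num) (by decide) (by decide)
  have hcac := x_comm chevE6 U 36 56 (by rw [hnr]; norm_num) (by rw [hnr]; norm_num)
    (by norm_num) (by decide) (by decide)
  have hcbc := x_comm chevE6 U 46 56 (by rw [hnr]; norm_num) (by rw [hnr]; norm_num)
    (by norm_num) (by decide) (by decide)
  have hA2 : ∀ x : ZMod 2 × K, x + x = 0 := by
    intro x
    exact Prod.ext (CharTwo.add_self_eq_zero x.1) (CharTwo.add_self_eq_zero x.2)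
  apply pRank_three chevE6 U (twistedE6 K (2 ^ j)) (A := ZMod 2 × K) hA2 h8 36 46 56
    (by norm_num) (by norm_num) (by rw [hnr]) (by rw [hnr]; norm_num)
    ((iterateFrobenius K 2 j).toAddMonoidHom.comp (AddMonoidHom.snd (ZMod 2) K))
    ((ZMod.castHom (dvd_refl 2) K).toAddMonoidHom.comp (AddMonoidHom.fst (ZMod 2) K))
    (AddMonoidHom.snd (ZMod 2) K) ?_ hcab hcac hcbc ?_
  · rintro ⟨i, t⟩ - h2 h3
    have ht : t = 0 := h3
    have hi : i = 0 := by
      have h2' : (ZMod.castHom (dvd_refl 2) K) i = 0 := h2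
      exact (map_eq_zero_iff _ (RingHom.injective _)).mp h2'
    rw [ht, hi]
    rfl
  · rintro ⟨i, t⟩
    have e1 : ((iterateFrobenius K 2 j).toAddMonoidHom.comp (AddMonoidHom.snd (ZMod 2) K)) (i, t)
        = t ^ (2 ^ j) := by
      show iterateFrobenius K 2 j t = _
      rw [iterateFrobenius_def]
    have e2 : ((ZMod.castHom (dvd_refl 2) K).toAddMonoidHom.comp (AddMonoidHom.fst (ZMod 2) K))
        (i, t) = (ZMod.castHom (dvd_refl 2) K) i := rfl
    have e3 : (AddMonoidHom.snd (ZMod 2) K) (i, t) = t := rfl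
    rw [e1, e2, e3]
    set s : K := (ZMod.castHom (dvd_refl 2) K) i with hs
    have hsq : s ^ (2 ^ j) = s := by
      rw [hs, ← map_pow, ZMod.pow_card_pow]
    have hm1 : xU chevE6 U.inv 46 s ∈ twistedE6 K (2 ^ j) := by
      apply Subgroup.subset_closure
      refine ⟨[(e6p2, s)], Or.inl ⟨s, hsq, e6p2, List.mem_cons_self, rfl⟩, ?_⟩
      rw [xU_val, wordMat_cons, wordMat_nil, mul_one]
      rfl
    have hm2 : xU chevE6 U.inv 56 t * xU chevE6 U.inv 36 (t ^ (2 ^ j)) ∈ twistedE6 K (2 ^ j) := by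
      apply Subgroup.subset_closure
      refine ⟨[(e6p1, t), (e6p6, t ^ (2 ^ j))],
        Or.inr ⟨t, (e6p1, e6p6), List.mem_cons_self, rfl⟩, ?_⟩
      rw [Units.val_mul, xU_val, xU_val, wordMat_cons, wordMat_cons, wordMat_nil, mul_one]
      rfl
    have hAB := xU_comm chevE6 U 36 46 hcab (t ^ (2 ^ j)) s
    have hAC := xU_comm chevE6 U 36 56 hcac (t ^ (2 ^ j)) t
    have heq : xU chevE6 U.inv 36 (t ^ (2 ^ j)) * xU chevE6 U.inv 46 s * xU chevE6 U.inv 56 t =
        xU chevE6 U.inv 46 s * (xU chevE6 U.inv 56 t * xU chevE6 U.inv 36 (t ^ (2 ^ j))) := by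
      rw [← hAB, mul_assoc, ← hAC]
    rw [heq]
    exact Subgroup.mul_mem _ hm1 hm2

end Cfsg.Agent.Lib.Helper78.R3TWE6
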