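import Cfsg.Agent.Lib.Helper78.R3TwLib
import Cfsg.Agent.Lib.Helper36.ChevUF4

/-!
S1788 piece TWF4: `²F₄(2^(2m+1))`, `m ≥ 1`, has an elementary abelian 2-subgroup of order `≥ 8`
(the pair words `x_{p₁}(t ^ θ) x_{p₄}(t)`).
-/

set_option autoImplicit false

namespace Cfsg.Agent.Lib.Helper78.R3TWF4

open Cfsg Cfsg.Lie Cfsg.Agent.Lib.Helper36.ChevU Cfsg.Agent.Lib.Helper36.ChevGen
  Cfsg.Agent.Lib.Helper36.ChevSound Cfsg.Agent.Lib.Helper78.R3TwLib

theorem main : Cfsg.Agent.Lib.Helper24.R3Stmt.RTwF4 := by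
  intro K _ _ m hm hcard
  have U : UFacts chevF4 K := Cfsg.Agent.Lib.Helper36.ChevUF4.facts
  obtain ⟨p, hp⟩ := CharP.exists K
  obtain ⟨n, hpp, hn⟩ := FiniteField.card K p
  have hp2 : p = 2 := by
    have hdvd : p ∣ 2 ^ (2 * m + 1) := by
      rw [← hcard, hn]
      exact dvd_pow_self p n.ne_zero
    exact (Nat.prime_dvd_prime_iff_eq hpp Nat.prime_two).mp (hpp.dvd_of_dvd_pow hdvd)
  subst hp2
  have hexp : ExpChar K 2 := ExpChar.prime Nat.prime_two
  have hnr : chevF4.nroots = 48 := by decide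
  have h8 : 8 ≤ Nat.card K := by
    rw [Nat.card_eq_fintype_card, hcard]
    calc 8 = 2 ^ 3 := by norm_num
      _ ≤ 2 ^ (2 * m + 1) := Nat.pow_le_pow_right (by norm_num) (by omega)
  have hcab := x_comm chevF4 U 24 33 (by rw [hnr]; norm_num) (by rw [hnr]; norm_num)
    (by norm_num) (by decide) (by decide)
  have hcac := x_comm chevF4 U 24 47 (by rw [hnr]; norm_num) (by rw [hnr]; norm_num)
    (by norm_num) (by decide) (by decide)
  have hcbc := x_comm chevF4 U 33 47 (by rw [hnr]; norm_num) (by rw [hnr]; norm_num)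
    (by norm_num) (by decide) (by decide)
  apply pRank_three chevF4 U (twistedF4 K (2 ^ m)) (A := K)
    (fun x => CharTwo.add_self_eq_zero x) h8 24 33 47 (by norm_num) (by norm_num)
    (by rw [hnr]) (by rw [hnr]; norm_num)
    (AddMonoidHom.id K) (iterateFrobenius K 2 m).toAddMonoidHom (0 : K →+ K)
    (fun x h _ _ => h) hcab hcac hcbc
  intro x
  apply Subgroup.subset_closure
  refine ⟨f4PairWord (2 ^ m) f4p1 f4p4 x, Or.inl ⟨x, Or.inl rfl⟩, ?_⟩
  have h0 : chevF4.x K 47 0 = 1 := by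
    have := congrArg Units.val (xU_zero chevF4 U.inv U.add 47)
    rwa [xU_val, Units.val_one] at this
  have e2 : (iterateFrobenius K 2 m).toAddMonoidHom x = x ^ (2 ^ m) := by
    show iterateFrobenius K 2 m x = _
    rw [iterateFrobenius_def]
  have e1 : (AddMonoidHom.id K) x = x := rfl
  have e3 : (0 : K →+ K) x = 0 := rfl
  rw [Units.val_mul, Units.val_mul, xU_val, xU_val, xU_val, e1, e2, e3, h0, mul_one]
  show chevF4.x K 24 x * chevF4.x K 33 (x ^ 2 ^ m) =
    chevF4.wordMat K [(33, x ^ (2 ^ m)), (24, x)]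
  rw [wordMat_cons, wordMat_cons, wordMat_nil, mul_one]
  exact (hcab _ _).symm

end Cfsg.Agent.Lib.Helper78.R3TWF4
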