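import Cfsg.Agent.Lib.Helper24.R3Stmt
import Cfsg.Agent.Lib.Helper36.ChevU

/-!
S1788: a common lemma for the twisted pieces: three pairwise commuting positive root subgroups
`x_a, x_b, x_c` (`a < b < c`) and additive parameter maps from an elementary abelian 2-group `A`
give an elementary abelian 2-subgroup of order `|A|`.
-/

set_option autoImplicit false

namespace Cfsg.Agent.Lib.Helper78.R3TwLib

open Cfsg Cfsg.Lie Cfsg.Agent.Lib.Helper36.ChevU Cfsg.Agent.Lib.Helper36.ChevGen
  Cfsg.Agent.Lib.Helper36.ChevSound Cfsg.Agent.Lib.Helper36.ChevComm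

/-- reordering three pairwise commuting elements -/
theorem reorder3 {M : Type*} [Monoid M] (a b c : M) (hab : b * a = a * b) (hac : c * a = a * c)
    (hbc : c * b = b * c) : a * b * c = c * (b * a) := by
  calc a * b * c = a * (b * c) := mul_assoc _ _ _
    _ = a * (c * b) := by rw [hbc]
    _ = (a * c) * b := (mul_assoc _ _ _).symm
    _ = (c * a) * b := by rw [hac]
    _ = c * (a * b) := mul_assoc _ _ _
    _ = c * (b * a) := by rw [hab]

variable {F : Type} [Field F]

/-- root elements commute when the commutator word is empty -/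
theorem x_comm (D : ChevalleyDatum) (U : UFacts D F) (r s : ℕ) (hr : r < D.nroots)
    (hs : s < D.nroots) (h1 : s ≠ r) (h2 : s ≠ D.neg r) (hc : D.commTerms r s = []) (t u : F) :
    D.x F s u * D.x F r t = D.x F r t * D.x F s u := by
  have h := U.comm r s hr hs h1 h2 t u
  rw [h]
  unfold ChevalleyDatum.commWord
  rw [hc, List.map_nil, wordMat_nil, mul_one]

theorem xU_comm (D : ChevalleyDatum) (U : UFacts D F) (r s : ℕ)
    (h : ∀ t u : F, D.x F s u * D.x F r t = D.x F r t * D.x F s u) (t u : F) :
    xU D U.inv s u * xU D U.inv r t = xU D U.inv r t * xU D U.inv s u := by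
  apply Units.ext
  rw [Units.val_mul, Units.val_mul, xU_val, xU_val]
  exact h t u

theorem pRank_three (D : ChevalleyDatum) (U : UFacts D F) (H : Subgroup (GL D.Idx F))
    {A : Type} [AddCommGroup A] [Finite A] (hA2 : ∀ x : A, x + x = 0) (hcard : 8 ≤ Nat.card A)
    (a b c : ℕ) (hab : a < b) (hbc : b < c) (ha : D.nroots / 2 ≤ a) (hc : c < D.nroots)
    (fa fb fc : A →+ F)
    (hinj : ∀ x : A, fa x = 0 → fb x = 0 → fc x = 0 → x = 0)
    (hcab : ∀ t u : F, D.x F b u * D.x F a t = D.x F a t * D.x F b u)
    (hcac : ∀ t u : F, D.x F c u * D.x F a t = D.x F a t * D.x F c u)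
    (hcbc : ∀ t u : F, D.x F c u * D.x F b t = D.x F b t * D.x F c u)
    (hmem : ∀ x : A, xU D U.inv a (fa x) * xU D U.inv b (fb x) * xU D U.inv c (fc x) ∈ H) :
    Cfsg.PRankAtLeast 2 3 H := by
  have hAB := xU_comm D U a b hcab
  have hAC := xU_comm D U a c hcac
  have hBC := xU_comm D U b c hcbc
  have hadd : ∀ x y : A,
      (xU D U.inv a (fa x) * xU D U.inv b (fb x) * xU D U.inv c (fc x)) *
        (xU D U.inv a (fa y) * xU D U.inv b (fb y) * xU D U.inv c (fc y)) =
      xU D U.inv a (fa (x + y)) * xU D U.inv b (fb (x + y)) * xU D U.inv c (fc (x + y)) := by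
    intro x y
    rw [map_add, map_add, map_add, ← xU_add D U.inv U.add a, ← xU_add D U.inv U.add b,
      ← xU_add D U.inv U.add c]
    have e1 := hAC (fa y) (fc x)
    have e2 := hAB (fa y) (fb x)
    have e3 := hBC (fb y) (fc x)
    generalize xU D U.inv a (fa x) = Ax at *
    generalize xU D U.inv b (fb x) = Bx at *
    generalize xU D U.inv c (fc x) = Cx at *
    generalize xU D U.inv a (fa y) = Ay at *
    generalize xU D U.inv b (fb y) = By at *
    generalize xU D U.inv c (fc y) = Cy at *
    calc Ax * Bx * Cx * (Ay * By * Cy) = Ax * Bx * (Cx * Ay) * By * Cy := by group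
      _ = Ax * Bx * (Ay * Cx) * By * Cy := by rw [e1]
      _ = Ax * (Bx * Ay) * (Cx * By) * Cy := by group
      _ = Ax * (Ay * Bx) * (By * Cx) * Cy := by rw [e2, e3]
      _ = Ax * Ay * (Bx * By) * (Cx * Cy) := by group
  have hzero : xU D U.inv a (fa 0) * xU D U.inv b (fb 0) * xU D U.inv c (fc 0) = 1 := by
    rw [map_zero, map_zero, map_zero, xU_zero D U.inv U.add, xU_zero D U.inv U.add,
      xU_zero D U.inv U.add, one_mul, one_mul]
  have hinj' : ∀ x y : A,
      xU D U.inv a (fa x) * xU D U.inv b (fb x) * xU D U.inv c (fc x) =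
        xU D U.inv a (fa y) * xU D U.inv b (fb y) * xU D U.inv c (fc y) → x = y := by
    intro x y hxy
    have hm := congrArg (fun g : GL D.Idx F => (g : Matrix D.Idx D.Idx F)) hxy
    simp only [Units.val_mul, xU_val] at hm
    have hba : b ≠ a := by omega
    have hca : c ≠ a := by omega
    have hcb : c ≠ b := by omega
    have hw : ∀ z : A, D.wordMat F ([a, b, c].map fun r =>
        (r, if r = a then fa z else if r = b then fb z else fc z)) =
        D.x F a (fa z) * D.x F b (fb z) * D.x F c (fc z) := by
      intro z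
      rw [List.map_cons, List.map_cons, List.map_cons, List.map_nil, wordMat_cons, wordMat_cons,
        wordMat_cons, wordMat_nil, mul_one]
      simp only [if_true, if_neg hba, if_neg hca, if_neg hcb]
      rw [mul_assoc]
    have hu := unique_aux D U.inv U.even U.neg U.tri U.cor [a, b, c]
      (by simp only [List.pairwise_cons, List.mem_cons, List.not_mem_nil, or_false,
            List.Pairwise.nil, and_true, forall_eq_or_imp, forall_eq, false_imp_iff,
            implies_true]
          exact ⟨⟨hab, hab.trans hbc⟩, hbc⟩)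
      (by intro r hr
          simp only [List.mem_cons, List.not_mem_nil, or_false] at hr
          rcases hr with rfl | rfl | rfl <;> omega)
      (fun r => if r = a then fa x else if r = b then fb x else fc x)
      (fun r => if r = a then fa y else if r = b then fb y else fc y)
      (by rw [hw x, hw y]; exact hm)
    have h1 := hu a (by simp)
    have h2 := hu b (by simp)
    have h3 := hu c (by simp)
    simp only [if_true, if_neg hba, if_neg hca, if_neg hcb] at h1 h2 h3
    have hz := hinj (x - y) (by rw [map_sub, h1, sub_self]) (by rw [map_sub, h2, sub_self])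
      (by rw [map_sub, h3, sub_self])
    exact sub_eq_zero.mp hz
  refine Cfsg.Agent.Lib.Helper24.R3Stmt.pRank_of_map 3
    (fun x : A => (⟨_, hmem x⟩ : H)) ?_ hcard ⟨0, ?_⟩ (fun i j => ⟨i + j, ?_⟩) ?_ ?_
  · intro x y hxy
    exact hinj' x y (congrArg Subtype.val hxy)
  · exact Subtype.ext hzero
  · exact Subtype.ext (hadd i j)
  · intro i j
    apply Subtype.ext
    show _ * _ = _ * _
    rw [hadd i j, hadd j i, add_comm]
  · intro i
    apply Subtype.ext
    rw [pow_two]
    show _ * _ = (1 : GL D.Idx F)
    rw [hadd i i, hA2 i, hzero]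

end Cfsg.Agent.Lib.Helper78.R3TwLib
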