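import Mathlib
import Cfsg.Agent.Lib.Helper39.TLStmt

set_option autoImplicit false

/-! S4404, second stage of piece [PW7] (helper78): if every `Y`-conjugate of `W` meets `W`
non-trivially, then `#Y ≤ 7 * #(Y ∩ C(W))`.  No count of the four-subgroups of a group of order 8
is needed: each conjugate of `W` is determined by a label in `W × W` (16 labels), and the index of
the normalizer is a power of 7. -/

namespace Cfsg.Agent.Lib.Helper78.TLPW7B

open Cfsg Cfsg.Agent.Lib.Helper39.TLStmt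

universe u

variable {S : Type u} [Group S] [Finite S]

theorem three_le_card (D : Subgroup S) {a b c : S} (ha : a ∈ D) (hb : b ∈ D) (hc : c ∈ D)
    (hab : a ≠ b) (hac : a ≠ c) (hbc : b ≠ c) : 3 ≤ Nat.card ↥D := by
  have h1 : ({a, b, c} : Set S) ⊆ (D : Set S) := by
    intro s hs
    rcases hs with rfl | rfl | rfl
    · exact ha
    · exact hb
    · exact hc
  have h2 : ({a, b, c} : Set S).ncard = 3 := by
    rw [Set.ncard_eq_three]
    exact ⟨a, b, c, hab, hac, hbc, rfl⟩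
  have h3 := Set.ncard_le_ncard h1 (Set.toFinite _)
  rw [h2] at h3
  have h4 : Nat.card ↥D = (D : Set S).ncard := Nat.card_coe_set_eq (D : Set S)
  rw [h4]
  exact h3

theorem eq_of_three (D W : Subgroup S) (hDW : D ≤ W) (hW : Nat.card ↥W = 4) {a b c : S}
    (ha : a ∈ D) (hb : b ∈ D) (hc : c ∈ D) (hab : a ≠ b) (hac : a ≠ c) (hbc : b ≠ c) :
    D = W := by
  have h3 := three_le_card D ha hb hc hab hac hbc
  have hdvd : Nat.card ↥D ∣ 4 := hW ▸ Subgroup.card_dvd_of_le hDW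
  have h4 : Nat.card ↥D = 4 := by
    have hle : Nat.card ↥D ≤ 4 := Nat.le_of_dvd (by norm_num) hdvd
    rcases Nat.lt_or_ge (Nat.card ↥D) 4 with h | h
    · have h5 : Nat.card ↥D = 3 := by omega
      rw [h5] at hdvd
      exact absurd hdvd (by decide)
    · omega
  exact Subgroup.eq_of_le_of_card_ge hDW (by rw [hW, h4])

omit [Finite S] in
theorem mem_cj (W : Subgroup S) (y s : S) :
    s ∈ W.map (MulAut.conj y).toMonoidHom ↔ y⁻¹ * s * y ∈ W := by
  constructor
  · rintro ⟨w, hw, rfl⟩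
    have e : y⁻¹ * (MulAut.conj y).toMonoidHom w * y = w := by
      simp [MulAut.conj_apply, mul_assoc]
    rw [e]
    exact hw
  · intro h
    refine ⟨y⁻¹ * s * y, h, ?_⟩
    simp [MulAut.conj_apply, mul_assoc]

omit [Finite S] in
theorem card_cj (W : Subgroup S) (y : S) :
    Nat.card ↥(W.map (MulAut.conj y).toMonoidHom) = Nat.card ↥W :=
  Subgroup.card_map_of_injective (MulAut.conj y).injective

/-- an element of 7-power order normalizing a group of order 4 centralizes it -/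
theorem cent_of_norm (W : Subgroup S) (hW : Nat.card ↥W = 4) (g : S) (k : ℕ)
    (hg : g ^ 7 ^ k = 1) (hn : ∀ w ∈ W, g * w * g⁻¹ ∈ W) : ∀ w ∈ W, g * w * g⁻¹ = w := by
  let f : ↥W → ↥W := fun w => ⟨g * w.1 * g⁻¹, hn w.1 w.2⟩
  have hf : Function.Injective f := by
    intro a b hab
    have h1 : g * a.1 * g⁻¹ = g * b.1 * g⁻¹ := congrArg Subtype.val hab
    exact Subtype.ext (mul_left_cancel (mul_right_cancel h1))
  let σ : Equiv.Perm ↥W := Equiv.ofBijective f (Finite.injective_iff_bijective.mp hf)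
  have hσ0 : ∀ w : ↥W, ((σ w : ↥W) : S) = g * w.1 * g⁻¹ := fun w => rfl
  have hσ : ∀ n : ℕ, ∀ w : ↥W, (((σ ^ n) w : ↥W) : S) = g ^ n * w.1 * (g ^ n)⁻¹ := by
    intro n
    induction n with
    | zero =>
      intro w
      simp
    | succ n ih =>
      intro w
      rw [pow_succ', Equiv.Perm.mul_apply, hσ0, ih w, pow_succ']
      simp [mul_assoc]
  have hσ1 : σ ^ 7 ^ k = 1 := by
    apply Equiv.ext
    intro w
    apply Subtype.ext
    rw [hσ, hg]
    simp
  have hord : orderOf σ ∣ 7 ^ k := orderOf_dvd_of_pow_eq_one hσ1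
  have hord2 : orderOf σ ∣ Nat.factorial 4 := by
    have h1 := orderOf_dvd_natCard σ
    rwa [Nat.card_perm, hW] at h1
  have hcop : Nat.Coprime (7 ^ k) (Nat.factorial 4) := by
    apply Nat.Coprime.pow_left
    decide
  have h1 : orderOf σ = 1 := Nat.eq_one_of_dvd_coprimes hcop hord hord2
  have hσe : σ = 1 := orderOf_eq_one_iff.mp h1
  intro w hw
  have h2 := hσ0 ⟨w, hw⟩
  rw [hσe] at h2
  exact h2.symm

theorem stage2 (M Y W : Subgroup S) (x : S) (hY : IsPGroup 7 ↥Y) (hR : IsRefl M x W)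
    (hxY : ∀ y ∈ Y, x * y * x⁻¹ ∈ Y)
    (hmeet : ∀ y ∈ Y, ∃ w ∈ W, w ≠ 1 ∧ y * w * y⁻¹ ∈ W) :
    Nat.card ↥Y ≤ 7 * Nat.card ↥(Y ⊓ Subgroup.centralizer (W : Set S)) := by
  classical
  have h7 : Fact (Nat.Prime 7) := ⟨by norm_num⟩
  have hW4 : Nat.card ↥W = 4 := hR.card
  -- K1: elements of `Y` normalizing `W` centralize it
  have K1 : ∀ g ∈ Y, (∀ w ∈ W, g * w * g⁻¹ ∈ W) →
      g ∈ Y ⊓ Subgroup.centralizer (W : Set S) := by
    intro g hg hn
    obtain ⟨k, hk⟩ := hY ⟨g, hg⟩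
    have hk' : g ^ 7 ^ k = 1 := by
      have h1 := congrArg Subtype.val hk
      simpa using h1
    have hc := cent_of_norm W hW4 g k hk' hn
    refine Subgroup.mem_inf.mpr ⟨hg, ?_⟩
    rw [Subgroup.mem_centralizer_iff]
    intro w hw
    have h1 := hc w hw
    have h2 : g * w = w * g := mul_inv_eq_iff_eq_mul.mp h1
    exact h2.symm
  by_cases hall : ∀ y ∈ Y, ∀ w ∈ W, y * w * y⁻¹ ∈ W
  · have hle : Y ≤ Y ⊓ Subgroup.centralizer (W : Set S) := fun y hy => K1 y hy (hall y hy)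
    have h1 : Nat.card ↥Y ≤ Nat.card ↥(Y ⊓ Subgroup.centralizer (W : Set S)) :=
      Subgroup.card_le_of_le hle
    omega
  · push Not at hall
    obtain ⟨y₀, hy₀, w₁, hw₁, hbad⟩ := hall
    -- `x` normalizes `W`, and `x⁻¹` normalizes `Y`
    have hxW : ∀ w ∈ W, x * w * x⁻¹ ∈ W := by
      intro w hw
      have h1 := W.mul_mem (hR.comm w (hR.le hw)) hw
      have e : x * w * x⁻¹ * w⁻¹ * w = x * w * x⁻¹ := by group
      rw [e] at h1
      exact h1
    have hxinv : ∀ y ∈ Y, x⁻¹ * y * x ∈ Y := by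
      intro y hy
      let f : ↥Y → ↥Y := fun z => ⟨x * z.1 * x⁻¹, hxY z.1 z.2⟩
      have hf : Function.Injective f := by
        intro a b hab
        have h1 : x * a.1 * x⁻¹ = x * b.1 * x⁻¹ := congrArg Subtype.val hab
        exact Subtype.ext (mul_left_cancel (mul_right_cancel h1))
      obtain ⟨z, hz⟩ := (Finite.injective_iff_surjective.mp hf) ⟨y, hy⟩
      have h2 : x * z.1 * x⁻¹ = y := congrArg Subtype.val hz
      have h3 : x⁻¹ * y * x = z.1 := by
        rw [← h2]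
        group
      rw [h3]
      exact z.2
    -- the subgroup of the elements all of whose `Y`-conjugates lie in `W`
    let D : Subgroup S :=
      { carrier := {s | ∀ y ∈ Y, y * s * y⁻¹ ∈ W}
        mul_mem' := fun {a b} ha hb y hy => by
          have h := W.mul_mem (ha y hy) (hb y hy)
          have e : y * (a * b) * y⁻¹ = y * a * y⁻¹ * (y * b * y⁻¹) := by group
          rw [e]
          exact h
        one_mem' := fun y _ => by
          have e : y * 1 * y⁻¹ = 1 := by group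
          rw [e]
          exact W.one_mem
        inv_mem' := fun {a} ha y hy => by
          have h := W.inv_mem (ha y hy)
          have e : y * a⁻¹ * y⁻¹ = (y * a * y⁻¹)⁻¹ := by group
          rw [e]
          exact h }
    have hDmem : ∀ s : S, s ∈ D ↔ ∀ y ∈ Y, y * s * y⁻¹ ∈ W := fun s => Iff.rfl
    have hDW : D ≤ W := by
      intro s hs
      have h1 := (hDmem s).mp hs 1 Y.one_mem
      simpa using h1
    have hDx : ∀ d ∈ D, x * d * x⁻¹ ∈ D := by
      intro d hd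
      rw [hDmem]
      intro y hy
      have h1 := (hDmem d).mp hd (x⁻¹ * y * x) (hxinv y hy)
      have h2 := hxW _ h1
      have e : x * (x⁻¹ * y * x * d * (x⁻¹ * y * x)⁻¹) * x⁻¹ = y * (x * d * x⁻¹) * y⁻¹ := by
        group
      rw [e] at h2
      exact h2
    have hw₁D : w₁ ∉ D := fun h => hbad ((hDmem w₁).mp h y₀ hy₀)
    -- K2: every `v ≠ 1` of `W` has a conjugate outside `W`
    have K2 : ∀ v ∈ W, v ≠ 1 → ∃ y ∈ Y, y * v * y⁻¹ ∉ W := by
      intro v hv hv1
      by_contra hcon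
      push Not at hcon
      have hvD : v ∈ D := (hDmem v).mpr hcon
      have hv'D : x * v * x⁻¹ ∈ D := hDx v hvD
      have hne1 : (1 : S) ≠ v := fun h => hv1 h.symm
      have hne2 : (1 : S) ≠ x * v * x⁻¹ := by
        intro h
        apply hv1
        have h2 : x * v * x⁻¹ = 1 := h.symm
        have h3 : x * v = x := by
          have := mul_inv_eq_one.mp h2
          exact this
        exact mul_left_cancel (a := x) (by rw [h3, mul_one])
      have hne3 : v ≠ x * v * x⁻¹ := fun h => hv1 (hR.fix v hv h.symm)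
      have hDeq : D = W := eq_of_three D W hDW hW4 D.one_mem hvD hv'D hne1 hne2 hne3
      exact hw₁D (hDeq ▸ hw₁)
    have K2' : ∀ v : S, ∃ y : S, v ∈ W → v ≠ 1 → (y ∈ Y ∧ y * v * y⁻¹ ∉ W) := by
      intro v
      by_cases h : v ∈ W ∧ v ≠ 1
      · obtain ⟨y, hy, hy2⟩ := K2 v h.1 h.2
        exact ⟨y, fun _ _ => ⟨hy, hy2⟩⟩
      · exact ⟨1, fun h1 h2 => absurd ⟨h1, h2⟩ h⟩
    choose t ht using K2'
    -- labels
    have hlab : ∀ y : ↥Y, ∃ l : ↥W × ↥W, (l.1 : S) ≠ 1 ∧ (y : S)⁻¹ * l.1 * y ∈ W ∧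
        (t l.1)⁻¹ * l.2 * t l.1 ≠ 1 ∧ (y : S)⁻¹ * ((t l.1)⁻¹ * l.2 * t l.1) * y ∈ W := by
      rintro ⟨y, hy⟩
      obtain ⟨w, hw, hw1, hyw⟩ := hmeet y hy
      have hv1 : y * w * y⁻¹ ≠ 1 := by
        intro h
        apply hw1
        have h3 : y * w = y := mul_inv_eq_one.mp h
        exact mul_left_cancel (a := y) (by rw [h3, mul_one])
      obtain ⟨htY, _⟩ := ht (y * w * y⁻¹) hyw hv1
      obtain ⟨w', hw', hw'1, hyw'⟩ := hmeet (t (y * w * y⁻¹) * y) (Y.mul_mem htY hy)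
      refine ⟨(⟨y * w * y⁻¹, hyw⟩, ⟨t (y * w * y⁻¹) * y * w' * (t (y * w * y⁻¹) * y)⁻¹, hyw'⟩),
        hv1, ?_, ?_, ?_⟩
      · have e : y⁻¹ * (y * w * y⁻¹) * y = w := by group
        change y⁻¹ * (y * w * y⁻¹) * y ∈ W
        rw [e]
        exact hw
      · change (t (y * w * y⁻¹))⁻¹ * (t (y * w * y⁻¹) * y * w' * (t (y * w * y⁻¹) * y)⁻¹) *
          t (y * w * y⁻¹) ≠ 1
        have e : (t (y * w * y⁻¹))⁻¹ * (t (y * w * y⁻¹) * y * w' * (t (y * w * y⁻¹) * y)⁻¹) *
          t (y * w * y⁻¹) = y * w' * y⁻¹ := by group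
        rw [e]
        intro h
        apply hw'1
        have h3 : y * w' = y := mul_inv_eq_one.mp h
        exact mul_left_cancel (a := y) (by rw [h3, mul_one])
      · change y⁻¹ * ((t (y * w * y⁻¹))⁻¹ *
          (t (y * w * y⁻¹) * y * w' * (t (y * w * y⁻¹) * y)⁻¹) * t (y * w * y⁻¹)) * y ∈ W
        have e : y⁻¹ * ((t (y * w * y⁻¹))⁻¹ *
          (t (y * w * y⁻¹) * y * w' * (t (y * w * y⁻¹) * y)⁻¹) * t (y * w * y⁻¹)) * y = w' := by
          group
        rw [e]
        exact hw'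
    choose L hL using hlab
    -- equal labels: the quotient normalizes `W`
    have hfib : ∀ y₁ y₂ : ↥Y, L y₁ = L y₂ →
        (y₁ : S)⁻¹ * (y₂ : S) ∈ Y ⊓ Subgroup.centralizer (W : Set S) := by
      intro y₁ y₂ hLL
      obtain ⟨hv1, hvy₁, hq1, hqy₁⟩ := hL y₁
      obtain ⟨_, hvy₂, _, hqy₂⟩ := hL y₂
      rw [← hLL] at hvy₂ hqy₂
      have hvW : ((L y₁).1 : S) ∈ W := (L y₁).1.2
      obtain ⟨_, htbad⟩ := ht ((L y₁).1 : S) hvW hv1
      have hqv : ((L y₁).1 : S) ≠ (t (L y₁).1)⁻¹ * (L y₁).2 * t (L y₁).1 := by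
        intro h
        apply htbad
        have key : ∀ v l2 τ : S, v = τ⁻¹ * l2 * τ → τ * v * τ⁻¹ = l2 := by
          intro v l2 τ h'
          rw [h']
          group
        have e : t ((L y₁).1 : S) * ((L y₁).1 : S) * (t ((L y₁).1 : S))⁻¹ = ((L y₁).2 : S) :=
          key _ _ _ h
        rw [e]
        exact (L y₁).2.2
      have hsub : W.map (MulAut.conj (y₂ : S)).toMonoidHom ≤
          W.map (MulAut.conj (y₁ : S)).toMonoidHom := by
        have h1 : W.map (MulAut.conj (y₁ : S)).toMonoidHom ⊓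
            W.map (MulAut.conj (y₂ : S)).toMonoidHom =
            W.map (MulAut.conj (y₂ : S)).toMonoidHom := by
          refine eq_of_three _ _ inf_le_right ((card_cj W _).trans hW4)
            (Subgroup.one_mem _) (a := 1) (b := ((L y₁).1 : S))
            (c := (t (L y₁).1)⁻¹ * (L y₁).2 * t (L y₁).1) ?_ ?_ (fun h => hv1 h.symm)
            (fun h => hq1 h.symm) hqv
          · exact ⟨(mem_cj W _ _).mpr hvy₁, (mem_cj W _ _).mpr hvy₂⟩
          · exact ⟨(mem_cj W _ _).mpr hqy₁, (mem_cj W _ _).mpr hqy₂⟩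
        exact inf_eq_right.mp h1
      refine K1 _ (Y.mul_mem (Y.inv_mem y₁.2) y₂.2) ?_
      intro w hw
      have h1 : (y₂ : S) * w * (y₂ : S)⁻¹ ∈ W.map (MulAut.conj (y₂ : S)).toMonoidHom := by
        rw [mem_cj]
        have e : (y₂ : S)⁻¹ * ((y₂ : S) * w * (y₂ : S)⁻¹) * (y₂ : S) = w := by group
        rw [e]
        exact hw
      have h2 := (mem_cj W _ _).mp (hsub h1)
      have e : (y₁ : S)⁻¹ * (y₂ : S) * w * ((y₁ : S)⁻¹ * (y₂ : S))⁻¹ =
          (y₁ : S)⁻¹ * ((y₂ : S) * w * (y₂ : S)⁻¹) * (y₁ : S) := by group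
      rw [e]
      exact h2
    -- representatives of the fibres
    let r : ↥W × ↥W → ↥Y := fun l => if h : ∃ y, L y = l then h.choose else 1
    have hr : ∀ y : ↥Y, L (r (L y)) = L y := by
      intro y
      have h : ∃ y', L y' = L y := ⟨y, rfl⟩
      have e : r (L y) = h.choose := dif_pos h
      rw [e]
      exact h.choose_spec
    let Φ : ↥Y → (↥W × ↥W) × ↥(Y ⊓ Subgroup.centralizer (W : Set S)) := fun y =>
      (L y, ⟨((r (L y) : ↥Y) : S)⁻¹ * (y : S), hfib (r (L y)) y (hr y)⟩)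
    have hΦ : Function.Injective Φ := by
      intro a b hab
      have h1 : L a = L b := congrArg Prod.fst hab
      have h2 : ((r (L a) : ↥Y) : S)⁻¹ * (a : S) = ((r (L b) : ↥Y) : S)⁻¹ * (b : S) :=
        congrArg (fun z => ((z.2 : ↥(Y ⊓ Subgroup.centralizer (W : Set S))) : S)) hab
      rw [h1] at h2
      exact Subtype.ext (mul_left_cancel h2)
    have h16 : Nat.card ↥Y ≤ 16 * Nat.card ↥(Y ⊓ Subgroup.centralizer (W : Set S)) := by
      have h1 := Nat.card_le_card_of_injective Φ hΦ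
      rw [Nat.card_prod, Nat.card_prod, hW4] at h1
      omega
    have hC : IsPGroup 7 ↥(Y ⊓ Subgroup.centralizer (W : Set S)) := hY.to_le inf_le_left
    obtain ⟨a, ha⟩ := (IsPGroup.iff_card (p := 7)).mp hY
    obtain ⟨b, hb⟩ := (IsPGroup.iff_card (p := 7)).mp hC
    rw [ha, hb] at h16
    rw [ha, hb]
    by_cases hab : a ≤ b + 1
    · calc 7 ^ a ≤ 7 ^ (b + 1) := Nat.pow_le_pow_right (by norm_num) hab
        _ = 7 * 7 ^ b := by ring
    · exfalso
      have h2 : b + 2 ≤ a := by omega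
      have h3 : 7 ^ (b + 2) ≤ 7 ^ a := Nat.pow_le_pow_right (by norm_num) h2
      have h4 : 7 ^ (b + 2) = 49 * 7 ^ b := by ring
      have h5 : 0 < 7 ^ b := by positivity
      rw [h4] at h3
      generalize 7 ^ b = X at h3 h5 h16
      generalize 7 ^ a = Z at h3 h16
      omega

end Cfsg.Agent.Lib.Helper78.TLPW7B
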