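import Cfsg.Agent.Lib.Helper78.BrCPerLib
import Cfsg.Agent.Lib.Lead.TuanStmt

/-!
Additive characters of `ZMod p` and the Gauss periods: tools for the level-0 pieces of S0997
part T.
-/

set_option autoImplicit false

namespace Cfsg.Agent.Lib.Helper78.TSPerLib

open Cfsg.Agent.Lib.Lead Cfsg.Agent.Lib.Lead.BrHalf Cfsg.Agent.Lib.Helper78.BrCPerLib
open scoped ComplexConjugate

/-- the additive character `t ↦ ζ ^ t` of `ZMod p` -/
noncomputable def ez (p : ℕ) (ζ : ℂ) (t : ZMod p) : ℂ := ζ ^ t.val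

variable {p : ℕ} [Fact p.Prime] {ζ : ℂ}

theorem ez_natCast (hζ : IsPrimitiveRoot ζ p) (m : ℕ) : ez p ζ (m : ZMod p) = ζ ^ m :=
  (pow_eq_pow_val hζ m).symm

theorem ez_add (hζ : IsPrimitiveRoot ζ p) (t u : ZMod p) :
    ez p ζ (t + u) = ez p ζ t * ez p ζ u := by
  unfold ez
  rw [← pow_add, pow_eq_pow_val hζ (t.val + u.val)]
  congr 2
  rw [Nat.cast_add, ZMod.natCast_zmod_val, ZMod.natCast_zmod_val]

theorem ez_zero : ez p ζ 0 = 1 := by
  unfold ez
  rw [ZMod.val_zero, pow_zero]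

theorem ez_neg (hζ : IsPrimitiveRoot ζ p) (t : ZMod p) : ez p ζ (-t) = (ez p ζ t)⁻¹ := by
  apply eq_inv_of_mul_eq_one_left
  rw [← ez_add hζ, neg_add_cancel, ez_zero]

theorem conj_ez (hζ : IsPrimitiveRoot ζ p) (t : ZMod p) : conj (ez p ζ t) = ez p ζ (-t) := by
  have hp : p.Prime := Fact.out
  have hn : ‖ζ‖ = 1 := Complex.norm_eq_one_of_pow_eq_one hζ.pow_eq_one hp.ne_zero
  rw [ez_neg hζ]
  unfold ez
  rw [map_pow, ← Complex.inv_eq_conj hn, inv_pow]

theorem per_eq_ez (hζ : IsPrimitiveRoot ζ p) (a : ℕ) :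
    per p ζ a = ∑ s ∈ BrHalf.sq p, ez p ζ ((a : ZMod p) * s) :=
  per_eq hζ a

theorem sum_range_eq (f : ZMod p → ℂ) :
    ∑ a ∈ Finset.range p, f (a : ZMod p) = ∑ a : ZMod p, f a := by
  apply Finset.sum_nbij' (fun i : ℕ => (i : ZMod p)) (fun j : ZMod p => j.val)
  · intro i _
    exact Finset.mem_univ _
  · intro j _
    rw [Finset.mem_range]
    exact ZMod.val_lt j
  · intro i hi
    rw [Finset.mem_range] at hi
    show ((i : ZMod p)).val = i
    rw [ZMod.val_natCast, Nat.mod_eq_of_lt hi]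
  · intro j _
    show ((j.val : ℕ) : ZMod p) = j
    exact ZMod.natCast_zmod_val j
  · intro i _
    rfl

theorem sum_ez (hζ : IsPrimitiveRoot ζ p) : ∑ b : ZMod p, ez p ζ b = 0 := by
  have hp : p.Prime := Fact.out
  rw [← sum_range_eq (fun b => ez p ζ b)]
  rw [Finset.sum_congr rfl (fun i _ => ez_natCast hζ i)]
  exact hζ.geom_sum_eq_zero hp.one_lt

theorem sum_ez_mul (hζ : IsPrimitiveRoot ζ p) (t : ZMod p) :
    ∑ a : ZMod p, ez p ζ (a * t) = if t = 0 then (p : ℂ) else 0 := by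
  split_ifs with ht
  · subst ht
    simp only [mul_zero, ez_zero, Finset.sum_const, Finset.card_univ, ZMod.card, nsmul_eq_mul,
      mul_one]
  · rw [← sum_ez hζ]
    exact Equiv.sum_comp (Equiv.mulRight₀ t ht) (fun b => ez p ζ b)

theorem neg_mem_sq (hp4 : p % 4 = 1) {s : ZMod p} (hs : s ∈ BrHalf.sq p) : -s ∈ BrHalf.sq p := by
  rw [mem_sq] at hs ⊢
  refine ⟨neg_ne_zero.mpr hs.1, ?_⟩
  have h1 : IsSquare (-1 : ZMod p) := ZMod.exists_sq_eq_neg_one_iff.mpr (by omega)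
  have h2 := h1.mul hs.2
  rwa [neg_one_mul] at h2

end Cfsg.Agent.Lib.Helper78.TSPerLib
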