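import Cfsg.Agent.Lib.Helper78.TSPerLib

/-! S0997 part T, piece PerReal. -/

set_option autoImplicit false

namespace Cfsg.Agent.Lib.Helper78.TSPerReal

open Cfsg.Agent.Lib.Lead Cfsg.Agent.Lib.Lead.BrHalf Cfsg.Agent.Lib.Helper78.BrCPerLib
  Cfsg.Agent.Lib.Helper78.TSPerLib
open scoped ComplexConjugate

theorem main : Tuan.PerReal := by
  intro p _ hp4 ζ hζ a
  rw [per_eq_ez hζ a, map_sum]
  rw [Finset.sum_congr rfl (fun s _ => conj_ez hζ ((a : ZMod p) * s))]
  apply Finset.sum_nbij' (fun s : ZMod p => -s) (fun s : ZMod p => -s)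
  · intro s hs
    exact neg_mem_sq hp4 hs
  · intro s hs
    exact neg_mem_sq hp4 hs
  · intro s _
    exact neg_neg s
  · intro s _
    exact neg_neg s
  · intro s _
    show ez p ζ (-((a : ZMod p) * s)) = ez p ζ ((a : ZMod p) * -s)
    rw [mul_neg]

end Cfsg.Agent.Lib.Helper78.TSPerReal
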