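import Cfsg.Agent.Lib.Helper78.TSPerLib

/-! S0997 part T, piece PerSqTot. -/

set_option autoImplicit false

namespace Cfsg.Agent.Lib.Helper78.TSPerSqTot

open Cfsg.Agent.Lib.Lead Cfsg.Agent.Lib.Lead.BrHalf Cfsg.Agent.Lib.Helper78.BrCPerLib
  Cfsg.Agent.Lib.Helper78.TSPerLib

theorem main : Tuan.PerSqTot := by
  intro p _ hp4 ζ hζ
  have hp2 : p ≠ 2 := by
    rintro rfl
    omega
  rw [Finset.sum_congr rfl (fun a _ => by rw [per_eq_ez hζ a])]
  rw [sum_range_eq (fun a : ZMod p =>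
    (∑ s ∈ BrHalf.sq p, ez p ζ (a * s)) * (∑ s ∈ BrHalf.sq p, ez p ζ (a * s)))]
  have h1 : ∀ a : ZMod p,
      (∑ s ∈ BrHalf.sq p, ez p ζ (a * s)) * (∑ s ∈ BrHalf.sq p, ez p ζ (a * s)) =
      ∑ s ∈ BrHalf.sq p, ∑ s' ∈ BrHalf.sq p, ez p ζ (a * (s + s')) := by
    intro a
    rw [Finset.sum_mul_sum]
    apply Finset.sum_congr rfl
    intro s _
    apply Finset.sum_congr rfl
    intro s' _
    rw [mul_add, ez_add hζ]
  rw [Finset.sum_congr rfl (fun a _ => h1 a), Finset.sum_comm]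
  have h2 : ∀ s ∈ BrHalf.sq p,
      ∑ a : ZMod p, ∑ s' ∈ BrHalf.sq p, ez p ζ (a * (s + s')) = (p : ℂ) := by
    intro s hs
    rw [Finset.sum_comm]
    rw [Finset.sum_congr rfl (fun s' _ => sum_ez_mul hζ (s + s'))]
    rw [Finset.sum_eq_single (-s)]
    · rw [if_pos (add_neg_cancel s)]
    · intro s' _ hne
      rw [if_neg]
      intro h0
      apply hne
      exact (neg_eq_of_add_eq_zero_right h0).symm
    · intro hnot
      exact absurd (neg_mem_sq hp4 hs) hnot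
  rw [Finset.sum_congr rfl h2, Finset.sum_const, card_sq p hp2, nsmul_eq_mul, mul_comm]

end Cfsg.Agent.Lib.Helper78.TSPerSqTot
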