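import Cfsg.Agent.Lib.Helper78.TSPerLib

/-! S0997 part T, piece PerTot. -/

set_option autoImplicit false

namespace Cfsg.Agent.Lib.Helper78.TSPerTot

open Cfsg.Agent.Lib.Lead Cfsg.Agent.Lib.Lead.BrHalf Cfsg.Agent.Lib.Helper78.BrCPerLib
  Cfsg.Agent.Lib.Helper78.TSPerLib

theorem main : Tuan.PerTot := by
  intro p _ _ ζ hζ
  rw [Finset.sum_congr rfl (fun a _ => per_eq_ez hζ a)]
  rw [sum_range_eq (fun a : ZMod p => ∑ s ∈ BrHalf.sq p, ez p ζ (a * s)), Finset.sum_comm]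
  apply Finset.sum_eq_zero
  intro s hs
  rw [sum_ez_mul hζ, if_neg ((mem_sq s).mp hs).1]

end Cfsg.Agent.Lib.Helper78.TSPerTot
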